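import Cfsg.Agent.Lib.Helper27.BG14e
import Cfsg.Agent.Lib.Helper1.BG13P12
import Cfsg.Agent.Lib.Helper29.BG136
import Cfsg.Agent.S1378
import Cfsg.Agent.S1416
import Cfsg.Agent.S1417
import Cfsg.Agent.S1418
import Cfsg.Agent.S1427
import Cfsg.Agent.S1428

/-!
B-G Proposition 14.2 (a), (b) (statement S1430) from the single remaining fact `G1` (B-G 13.10(b));
all the other ingredients are landed statements.
-/

set_option autoImplicit false

namespace Cfsg.Agent.Lib.Helper27.BG14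

open Subgroup Cfsg.Agent.Lib.Helper28.BG12

universe u

variable {G : Type u} [Group G]

theorem c16 [Finite G] (hG : Cfsg.IsMinSimpleOddOrder G) : Cfsg.Agent.Lib.Helper58.BG12.C16 G :=
  fun M hM p _ A hAM hA hc => (Cfsg.Agent.S1416.result hG M hM p A ⟨hAM, hA, hc⟩).1

theorem t1417 [Finite G] (hG : Cfsg.IsMinSimpleOddOrder G) : T1417 G :=
  fun M hM p _ hp A hA => Cfsg.Agent.S1417.result hG M hM p hp A hA

theorem t1418 [Finite G] (hG : Cfsg.IsMinSimpleOddOrder G) : T1418 G :=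
  fun M hM E hE p _ hp A hA => Cfsg.Agent.S1418.result hG M hM E hE p hp A hA

theorem t1427 [Finite G] (hG : Cfsg.IsMinSimpleOddOrder G) : T1427 G :=
  fun M hM E hE p _ S hS1 hSc => Cfsg.Agent.S1427.result hG M hM E hE p S hS1 hSc

theorem t1428 [Finite G] (hG : Cfsg.IsMinSimpleOddOrder G) : T1428 G :=
  fun M hM E hE p hp P hPE hP R hR hRp => Cfsg.Agent.S1428.result hG M hM E hE p hp P hPE hP R hR hRp

theorem sp [Finite G] (hG : Cfsg.IsMinSimpleOddOrder G) : SP G :=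
  (Cfsg.Agent.S1378.result hG).2

theorem l136 [Finite G] (hG : Cfsg.IsMinSimpleOddOrder G) : L136 G :=
  Cfsg.Agent.Lib.Helper29.BG136.l136 hG

theorem pb2 [Finite G] (hG : Cfsg.IsMinSimpleOddOrder G) : Pb2 G :=
  Pb2_of hG (c16 hG) (t1417 hG) (t1418 hG) (sp hG) (l136 hG)

theorem p12 [Finite G] (hG : Cfsg.IsMinSimpleOddOrder G) : P12 G :=
  fun M hM E hE p hp P hPE hP q hq A hAE hA hc h =>
    haveI : Fact q.Prime := ⟨hq.1⟩
    Cfsg.Agent.Lib.Helper1.BG13.P12_of_L136 hG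
      (fun M hM E hE p hp P hPE hP R hR hRp =>
        Cfsg.Agent.S1428.result hG M hM E hE p hp P hPE hP R hR hRp)
      (Cfsg.Agent.Lib.Helper29.BG136.l136 hG) M hM E hE p hp P hPE hP q hq A ⟨hAE, hA, hc⟩ h

theorem p11_of_G1 [Finite G] (hG : Cfsg.IsMinSimpleOddOrder G) (hG1 : G1 G) : P11 G :=
  P11_of_G1 hG (c16 hG) (t1417 hG) (t1418 hG) (t1427 hG) (t1428 hG) (sp hG) (pb2 hG) hG1

theorem S1430_of_G1 [Finite G] (hG : Cfsg.IsMinSimpleOddOrder G) (hG1 : G1 G) (M : Subgroup G)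
    (hM : IsCoatom M) (K : Subgroup G) (hK : Cfsg.IsPiHallOf (Cfsg.kappa M) K M) (hK1 : K ≠ ⊥) :
    C1430 M K :=
  S1430_of hG (t1417 hG) (t1418 hG) (t1427 hG) (t1428 hG) (p12 hG) (p11_of_G1 hG hG1) (pb2 hG)
    M hM K hK hK1

end Cfsg.Agent.Lib.Helper27.BG14
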