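import Cfsg.Agent.Lib.Helper27.BG14d
import Cfsg.Agent.Lib.Helper30.Transitivity3

/-!
B-G Theorem 13.10 / Corollary 13.11 (`P11`) from its key step `G1` (= 13.10(b)): a subgroup of order
`t ∈ τ₁(M)` of `E` centralizes every subgroup `X` of order `p ∈ τ₃(M)` of `E` with `C_{M_σ}(X) ≠ 1`.
-/

set_option autoImplicit false

namespace Cfsg.Agent.Lib.Helper27.BG14

open Subgroup Cfsg.Agent.Lib.Helper30 Cfsg.Agent.Lib.Helper2 Cfsg.Agent.Lib.Helper68
  Cfsg.Agent.Lib.Helper28.BG12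
open scoped commutatorElement

universe u

variable {G : Type u} [Group G]

/-- B-G 13.10(b). -/
def G1 (G : Type u) [Group G] : Prop :=
  ∀ (M : Subgroup G), IsCoatom M → ∀ E : Subgroup G, Cfsg.IsComplIn E (Cfsg.sigmaCore M) M →
    ∀ p : ℕ, p ∈ Cfsg.tau3 M → ∀ X : Subgroup G, X ≤ E → Nat.card X = p →
    Cfsg.sigmaCore M ⊓ centralizer (X : Set G) ≠ ⊥ →
    ∀ t : ℕ, t ∈ Cfsg.tau1 M → ∀ P : Subgroup G, P ≤ E → Nat.card P = t →
    P ≤ centralizer (X : Set G)

/-- a normal Hall `π`-subgroup contains every `π`-subgroup. -/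
theorem le_of_normal_hall [Finite G] {π : Set ℕ} {K M W : Subgroup G}
    (hK : Cfsg.IsPiHallOf π K M) (hWM : W ≤ M) (hWK : W ≤ normalizer (K : Set G))
    (hW : ∀ r : ℕ, r.Prime → r ∣ Nat.card W → r ∈ π) : W ≤ K := by
  have h1 := Cfsg.Agent.Lib.Helper12.card_sup_mul_card_inf' W K hWK
  have h2 : K = W ⊔ K := by
    refine eq_of_hall_le hK le_sup_right (sup_le hWM hK.1) (fun r hr hrd => ?_)
    have h3 : r ∣ Nat.card W * Nat.card K := h1 ▸ Dvd.dvd.mul_right hrd _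
    rcases (Nat.Prime.dvd_mul hr).mp h3 with h | h
    · exact hW r hr h
    · exact hK.2.1 r hr h
  exact le_sup_left.trans h2.ge

/-- the Hall `τ₃(M)`-subgroup of `E`. -/
theorem exists_E3 [Finite G] (hG : Cfsg.IsMinSimpleOddOrder G) {M : Subgroup G} (hM : IsCoatom M)
    {E : Subgroup G} (hE : Cfsg.IsComplIn E (Cfsg.sigmaCore M) M) :
    ∃ E3 : Subgroup G, Cfsg.IsPiHallOf (Cfsg.tau3 M) E3 E ∧ IsCyclic E3 ∧ E3 ≤ ⁅E, E⁆ ∧
      E ≤ normalizer (E3 : Set G) := by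
  have hsolE : Group.IsSolvable E := isSolvable_of_le hE.1 (solvable_of_ne_top hG hM.1)
  obtain ⟨E3, hE3⟩ := Cfsg.Agent.Lib.Helper66.exists_isPiHallOf (Cfsg.tau3 M) E hsolE
  obtain ⟨h1, h2, h3⟩ := (Cfsg.Agent.S1415.result hG M hM E hE).2.2 E3 hE3
  exact ⟨E3, hE3, h1, h2, h3⟩

/-- a subgroup of `E` of order `p ∈ τ₃(M)` is normal in `E`. -/
theorem tau3_normal [Finite G] (hG : Cfsg.IsMinSimpleOddOrder G) {M : Subgroup G} (hM : IsCoatom M)
    {E : Subgroup G} (hE : Cfsg.IsComplIn E (Cfsg.sigmaCore M) M) {p : ℕ} (hp : p ∈ Cfsg.tau3 M)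
    {X : Subgroup G} (hXE : X ≤ E) (hX : Nat.card X = p) : E ≤ normalizer (X : Set G) := by
  have hpp : Fact p.Prime := ⟨hp.1⟩
  obtain ⟨E3, hE3, hc, -, hn⟩ := exists_E3 hG hM hE
  have hXE3 : X ≤ E3 := le_of_normal_hall hE3 hXE (hXE.trans hn) (fun r hr hrd => by
    rw [prime_dvd_card_isPGroup (isPGroup_of_card_prime hX) hr hrd]; exact hp)
  exact hn.trans (Cfsg.Agent.Lib.Helper58.BG12.normalizer_le_normalizer_of_isCyclic hc hXE3)

/-- steps 0 and 1. -/
theorem p11_setup [Finite G] (hG : Cfsg.IsMinSimpleOddOrder G) (h17 : T1417 G) (hb2 : Pb2 G)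
    {M : Subgroup G} (hM : IsCoatom M) {E : Subgroup G}
    (hE : Cfsg.IsComplIn E (Cfsg.sigmaCore M) M) {p : ℕ} (hp : p ∈ Cfsg.tau3 M)
    {X : Subgroup G} (hXE : X ≤ E) (hX : Nat.card X = p)
    (hD : Cfsg.sigmaCore M ⊓ centralizer (X : Set G) ≠ ⊥) :
    Cfsg.tau2 M = ∅ ∧ ∃ H : Subgroup G, IsCoatom H ∧ normalizer (X : Set G) ≤ H ∧
      p ∈ Cfsg.sigma H ∧ ∀ g : G, H ≠ cj g M := by
  have hpp : Fact p.Prime := ⟨hp.1⟩
  have hpM : p ∉ Cfsg.sigma M := hp.2.1
  have hXM : X ≤ M := hXE.trans hE.1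
  have hX1 : X ≠ ⊥ := ne_bot_of_card_prime (hX ▸ hpp.out)
  have hXtop : X ≠ ⊤ := fun h => hM.1 (top_le_iff.mp (h ▸ hXM))
  have hEN : E ≤ normalizer (X : Set G) := tau3_normal hG hM hE hp hXE hX
  obtain ⟨H, hH, hNH⟩ := exists_coatom_ge (normalizer_ne_top hG hX1 hXtop)
  have hκ : p ∈ Cfsg.kappa M := by
    obtain ⟨x, hx, hx1⟩ := exists_ne_one_of_ne_bot hX1
    obtain ⟨y, hy, hy1⟩ := exists_ne_one_of_ne_bot hD
    have hox : orderOf x = p := by
      have h1 : orderOf x ∣ p := hX ▸ Cfsg.Agent.Lib.Helper58.BG13.orderOf_dvd_card_of_mem hx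
      rcases (Nat.dvd_prime hpp.out).mp h1 with h | h
      · exact absurd (orderOf_eq_one_iff.mp h) hx1
      · exact h
    exact Cfsg.Agent.Lib.Helper28.BG12.mem_kappa_of hG hpM hp.2.2.2 (hXM hx) hox hy.1 hy1
      (mem_centralizer_iff.mp hy.2 x hx)
  have hpH : p ∈ Cfsg.sigma H := hb2 M hM p hκ X hXM hX H hH hNH
  have hnc : ∀ g : G, H ≠ cj g M := by
    rintro g rfl
    apply hpM
    have := Cfsg.Agent.Lib.Helper58.BG13.sigma_cj hpH g⁻¹
    rwa [cj_inv_cj] at this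
  refine ⟨?_, H, hH, hNH, hpH, hnc⟩
  rw [Set.eq_empty_iff_forall_notMem]
  intro a ha
  have haa : Fact a.Prime := ⟨ha.1⟩
  obtain ⟨A, hAE, hA, hAc⟩ := exists_ea_sq_in_compl hG hM hE ha
  have hHM : H ≠ M := fun h => hpM (h ▸ hpH)
  have h1 := (h17 M hM a ha A ⟨hAE.trans hE.1, hA, hAc⟩).2.2.2.2.1 H hH hHM
    ((hAE.trans hEN).trans hNH)
  exact hD (le_bot_iff.mp (h1 ▸ le_inf inf_le_left
    ((inf_le_right.trans (centralizer_le_normalizer _)).trans hNH)))

/-- `C_{M_σ}(X) ≤ C(E)`. -/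
theorem p11_cent [Finite G] (hG : Cfsg.IsMinSimpleOddOrder G)
    (h16 : Cfsg.Agent.Lib.Helper58.BG12.C16 G) (h17 : T1417 G) (h18 : T1418 G) (h27 : T1427 G)
    (hSP : SP G) (hb2 : Pb2 G) (hG1 : G1 G)
    {M : Subgroup G} (hM : IsCoatom M) {E : Subgroup G}
    (hE : Cfsg.IsComplIn E (Cfsg.sigmaCore M) M) {p : ℕ} (hp : p ∈ Cfsg.tau3 M)
    {X : Subgroup G} (hXE : X ≤ E) (hX : Nat.card X = p)
    (hD : Cfsg.sigmaCore M ⊓ centralizer (X : Set G) ≠ ⊥) :
    Cfsg.sigmaCore M ⊓ centralizer (X : Set G) ≤ centralizer (E : Set G) := by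
  have hpp : Fact p.Prime := ⟨hp.1⟩
  have hpM : p ∉ Cfsg.sigma M := hp.2.1
  have hXM : X ≤ M := hXE.trans hE.1
  have hXp : IsPGroup p X := isPGroup_of_card_prime hX
  have hX1 : X ≠ ⊥ := ne_bot_of_card_prime (hX ▸ hpp.out)
  obtain ⟨hτ2, H, hH, hNH, hpH, hnc⟩ := p11_setup hG h17 hb2 hM hE hp hXE hX hD
  have hHM : H ≠ M := fun h => hpM (h ▸ hpH)
  have hEN : E ≤ normalizer (X : Set G) := tau3_normal hG hM hE hp hXE hX
  have hEH : E ≤ H := hEN.trans hNH
  have hXH : X ≤ H := hXE.trans hEH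
  set D : Subgroup G := Cfsg.sigmaCore M ⊓ centralizer (X : Set G) with hDdef
  have hDH : D ≤ H := (inf_le_right.trans (centralizer_le_normalizer _)).trans hNH
  have hDM : D ≤ M := inf_le_left.trans (sigmaCore_le M)
  have hEND : E ≤ normalizer (D : Set G) :=
    Cfsg.Agent.Lib.Helper30.le_normalizer_inf (hE.1.trans (le_normalizer_sigmaCore M))
      (hEN.trans (Cfsg.Agent.Lib.Helper30.normalizer_le_normalizer_centralizer X))
  have hDσ : ∀ r : ℕ, r.Prime → r ∣ Nat.card D → r ∈ Cfsg.sigma M := fun r hr hrd =>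
    (sigmaCore_hall hG hM).2.1 r hr (hrd.trans (card_dvd_of_le inf_le_left))
  have hXHs : X ≤ Cfsg.sigmaCore H := isPGroup_le_sigmaCore hG hH hpH hXH hXp
  -- subgroups of prime order
  have key : ∀ P : Subgroup G, P ≤ E → (Nat.card P).Prime → D ≤ centralizer (P : Set G) := by
    intro P hPE hPp
    by_contra hn
    obtain ⟨t, ht⟩ : ∃ t, Nat.card P = t := ⟨_, rfl⟩
    have htt : Fact t.Prime := ⟨ht ▸ hPp⟩
    have hPt : IsPGroup t P := isPGroup_of_card_prime ht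
    have htM : t ∉ Cfsg.sigma M :=
      not_mem_sigma_of_dvd_compl hG hM hE htt.out (ht ▸ card_dvd_of_le hPE)
    have hcop : (Nat.card P).Coprime (Nat.card D) := by
      rw [ht]
      exact (Nat.Prime.coprime_iff_not_dvd htt.out).mpr (fun h => htM (hDσ t htt.out h))
    have hsolP : Group.IsSolvable P := by
      have := hPt.isNilpotent
      infer_instance
    obtain ⟨l, hl, Y, hlD, hYD, hYl, hY1, hPY, hYP⟩ :=
      Cfsg.Agent.Lib.Helper58.BG13.exists_comm_pgroup (hPE.trans hEND) hcop (Or.inl hsolP) hn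
    have hlM : l ∈ Cfsg.sigma M := hDσ l hl.out hlD
    have hlH : l ∉ Cfsg.sigma H := by
      intro h
      obtain ⟨g, hg⟩ := hSP M H hM hH ⟨l, hlM, h⟩
      exact hnc g hg
    have hlt : l ≠ t := fun h => htM (h ▸ hlM)
    have hYH : Y ≤ H := hYD.trans hDH
    have hPH : P ≤ H := hPE.trans hEH
    have hYH' : Y ≤ ⁅H, H⁆ := by
      rw [← hYP]; exact commutator_mono hYH hPH
    have hlβ : l ∉ Cfsg.beta H := fun h => hlH (mem_sigma_of_mem_alpha hG (ut hG) hH h.1)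
    have hYX : Y ≤ centralizer (X : Set G) := hYD.trans inf_le_right
    have hPl : (Nat.card P).Coprime l :=
      Cfsg.Agent.Lib.Helper58.BG13.coprime_card_of_isPGroup hlt.symm hPt
    -- `P ≤ H'` is impossible
    have hK : ¬ P ≤ ⁅H, H⁆ := by
      intro hPH'
      have h1 := Cfsg.Agent.Lib.Helper58.BG13.lemmaK hG hH hlβ hYl hY1 hYH' hPH' hPl hPY
      apply hY1
      rw [← hYP, commutator_eq_bot_iff_le_centralizer]
      exact le_centralizer_iff.mp h1
    by_cases htH : t ∈ Cfsg.sigma H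
    · exact hK ((isPGroup_le_sigmaCore hG hH htH hPH hPt).trans
        (Cfsg.Agent.Lib.Helper31.sigmaCore_le_commutator hG hH))
    rcases Cfsg.Agent.Lib.Helper58.BG13.tau_cases hG hH htt.out (ht ▸ card_dvd_of_le hPH) htH with
      h1 | h2 | h3
    · -- `t ∈ τ₁(H)`
      have hldH : l ∣ Nat.card H :=
        (Cfsg.Agent.Lib.Helper30.dvd_card_of_isPGroup_ne_bot hYl hY1).trans (card_dvd_of_le hYH)
      rcases Cfsg.Agent.Lib.Helper58.BG13.tau_cases hG hH hl.out hldH hlH with k1 | k2 | k3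
      · exact k1.2.2.2.1 ((Cfsg.Agent.Lib.Helper30.dvd_card_of_isPGroup_ne_bot hYl hY1).trans
          (card_dvd_of_le hYH'))
      · exact Cfsg.Agent.Lib.Helper58.BG13.case_q_tau2 hG h16 h17 h18 hM hH hHM hlM k2 hpH hXp hX1
          hXM hXH hYl hY1 (hYD.trans hDM) hYH hYX
      · have hl2 : l ≠ 2 := ne_two_of_isPGroup hG hYl hY1
        have hYc : IsCyclic Y :=
          Cfsg.Agent.Lib.Helper58.BG13.isCyclic_of_pRankLE_one hl2 k3.2.2.2 hYH hYl
        obtain ⟨Y₁, hY₁Y, hY₁c⟩ := Cfsg.Agent.Lib.Helper58.BG13.exists_card_prime_le hYl hY1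
        obtain ⟨EH, hEH', hPYE⟩ := exists_compl_ge hG hH (sup_le hPH hYH) (by
          intro r hr hrd
          rcases Cfsg.Agent.Lib.Helper58.BG13.prime_dvd_card_sup' hPY hr hrd with h | h
          · rw [prime_dvd_card_isPGroup hPt hr h]; exact htH
          · rw [prime_dvd_card_isPGroup hYl hr h]; exact hlH)
        have hne : Cfsg.sigmaCore H ⊓ centralizer (Y₁ : Set G) ≠ ⊥ := fun h =>
          hX1 (le_bot_iff.mp (h ▸ le_inf hXHs
            ((le_centralizer_iff.mp hYX).trans (centralizer_le hY₁Y))))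
        have h4 := hG1 H hH EH hEH' l k3 Y₁ (hY₁Y.trans (le_sup_right.trans hPYE)) hY₁c hne t h1 P
          (le_sup_left.trans hPYE) ht
        have hcomm : IsMulCommutative Y := by
          obtain ⟨g, hg⟩ := hYc
          exact ⟨⟨fun a b => by
            obtain ⟨m, rfl⟩ := mem_zpowers_iff.mp (hg a)
            obtain ⟨n, rfl⟩ := mem_zpowers_iff.mp (hg b)
            rw [← zpow_add, ← zpow_add, add_comm]⟩⟩
        have hcop' : (Nat.card Y).Coprime (Nat.card P) := by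
          rw [ht]
          exact Cfsg.Agent.Lib.Helper58.BG13.coprime_card_of_isPGroup hlt hYl
        have h5 := Cfsg.Agent.Lib.Helper69.commutator_inf_centralizer_eq_bot Y P hcomm hPY hcop'
        rw [hYP] at h5
        have h6 : Y₁ ≤ ⊥ := h5 ▸ le_inf hY₁Y (le_centralizer_iff.mp h4)
        exact ne_bot_of_card_prime (hY₁c ▸ hl.out) (le_bot_iff.mp h6)
    · exact hY1 (Cfsg.Agent.Lib.Helper58.BG13.case_r_tau2 hG h18 hH hlt hlH h2 hPH ht hYl hYH hPY hYP)
    · exact hK (Cfsg.Agent.Lib.Helper58.BG13.le_commutator_of_tau3 hG h3 hPH ht)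
  -- Sylow subgroups
  rw [le_centralizer_iff]
  apply le_of_forall_isSylowIn
  intro r _ hrE
  obtain ⟨S, hS⟩ := exists_isSylowIn r E
  refine ⟨S, hS, ?_⟩
  have hrM : r ∉ Cfsg.sigma M := not_mem_sigma_of_dvd_compl hG hM hE Fact.out hrE
  have hS1 : S ≠ ⊥ := Cfsg.Agent.Lib.Helper58.BG13.ne_bot_of_isSylowIn_of_dvd hS hrE
  have hr2 : r ≠ 2 := ne_two_of_isPGroup hG hS.isPGroup hS1
  have hr1 : Cfsg.PRankLE r 1 M := by
    rcases Cfsg.Agent.Lib.Helper58.BG13.tau_cases hG hM Fact.out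
      (hrE.trans (card_dvd_of_le hE.1)) hrM with h | h | h
    · exact h.2.2.2.2
    · rw [hτ2] at h; exact absurd h (Set.notMem_empty r)
    · exact h.2.2.2
  have hcS : IsCyclic S :=
    Cfsg.Agent.Lib.Helper58.BG13.isCyclic_of_pRankLE_one hr2 hr1 (hS.le.trans hE.1) hS.isPGroup
  obtain ⟨P', hP'⟩ := hS.exists_sylow
  have hP'1 : (P' : Subgroup E) ≠ ⊥ := by
    intro h
    apply hS1
    rw [← hP', h, Subgroup.map_bot]
  have hP'c : IsCyclic (P' : Subgroup E) := by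
    have hc2 : IsCyclic ((P' : Subgroup E).map E.subtype) := hP'.symm ▸ hcS
    exact isCyclic_of_injective
      ((P' : Subgroup E).equivMapOfInjective E.subtype E.subtype_injective).toMonoidHom
      ((P' : Subgroup E).equivMapOfInjective E.subtype E.subtype_injective).injective
  obtain ⟨x, hxS, hx1⟩ := exists_ne_one_of_ne_bot hS1
  obtain ⟨y, hy, hyp⟩ := exists_prime_order_mem_zpowers hx1
  have hyS : y ∈ S := (zpowers_le.mpr hxS) hy
  have hy1 : y ≠ 1 := by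
    rintro rfl
    rw [orderOf_one] at hyp
    exact Nat.not_prime_one hyp
  have h1 := h27 M hM E hE r P' hP'1 hP'c y (hP'.symm ▸ hyS) hy1
  rw [hP'] at h1
  have h2 := key (zpowers y) (zpowers_le.mpr (hS.le hyS)) (by rwa [Nat.card_zpowers])
  rw [centralizer_zpowers_eq] at h2
  have h3 : D ≤ Cfsg.sigmaCore M ⊓ centralizer (S : Set G) := h1 ▸ le_inf inf_le_left h2
  exact le_centralizer_iff.mp (h3.trans inf_le_right)

theorem P11_of_G1 [Finite G] (hG : Cfsg.IsMinSimpleOddOrder G)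
    (h16 : Cfsg.Agent.Lib.Helper58.BG12.C16 G) (h17 : T1417 G) (h18 : T1418 G) (h27 : T1427 G)
    (h28 : T1428 G) (hSP : SP G) (hb2 : Pb2 G) (hG1 : G1 G) : P11 G := by
  intro M hM E hE p hp X hXE hX hD
  have hpp : Fact p.Prime := ⟨hp.1⟩
  obtain ⟨hτ2, -⟩ := p11_setup hG h17 hb2 hM hE hp hXE hX hD
  refine ⟨hτ2, fun X' hX'E hX'p => ?_⟩
  have hDE := p11_cent hG h16 h17 h18 h27 hSP hb2 hG1 hM hE hp hXE hX hD
  have hge : Cfsg.sigmaCore M ⊓ centralizer (E : Set G) ≤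
      Cfsg.sigmaCore M ⊓ centralizer (X' : Set G) :=
    inf_le_inf_left _ (centralizer_le (SetLike.coe_subset_coe.2 hX'E))
  obtain ⟨t, ht⟩ : ∃ t, Nat.card X' = t := ⟨_, rfl⟩
  have htt : Fact t.Prime := ⟨ht ▸ hX'p⟩
  have htE : t ∣ Nat.card E := ht ▸ card_dvd_of_le hX'E
  have htM : t ∉ Cfsg.sigma M := not_mem_sigma_of_dvd_compl hG hM hE htt.out htE
  rcases Cfsg.Agent.Lib.Helper58.BG13.tau_cases hG hM htt.out
    (htE.trans (card_dvd_of_le hE.1)) htM with h1 | h2 | h3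
  · -- `t ∈ τ₁(M)`
    obtain ⟨E3, hE3, hc, -, hn⟩ := exists_E3 hG hM hE
    have hE'E3 : ⁅E, E⁆ ≤ E3 := by
      apply le_of_normal_hall hE3 (commutator_le_self E) ((commutator_le_self E).trans hn)
      intro r hr hrd
      have hrE : r ∣ Nat.card E := hrd.trans (card_dvd_of_le (commutator_le_self E))
      have hrM : r ∉ Cfsg.sigma M := not_mem_sigma_of_dvd_compl hG hM hE hr hrE
      rcases Cfsg.Agent.Lib.Helper58.BG13.tau_cases hG hM hr
        (hrE.trans (card_dvd_of_le hE.1)) hrM with h | h | h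
      · exact absurd (hrd.trans (card_dvd_of_le (commutator_mono hE.1 hE.1))) h.2.2.2.1
      · rw [hτ2] at h; exact absurd h (Set.notMem_empty r)
      · exact h
    have hcop : (Nat.card E3).Coprime (Nat.card X') := by
      rw [ht]
      refine (Nat.Coprime.symm ((Nat.Prime.coprime_iff_not_dvd htt.out).mpr (fun h => ?_)))
      exact h1.2.2.2.1 ((hE3.2.1 t htt.out h).2.2.1)
    have hcomm : IsMulCommutative E3 := by
      obtain ⟨g, hg⟩ := hc
      exact ⟨⟨fun a b => by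
        obtain ⟨m, rfl⟩ := mem_zpowers_iff.mp (hg a)
        obtain ⟨n, rfl⟩ := mem_zpowers_iff.mp (hg b)
        rw [← zpow_add, ← zpow_add, add_comm]⟩⟩
    have hX'n : X' ≤ normalizer (E3 : Set G) := hX'E.trans hn
    have hcent : E3 ≤ centralizer (X' : Set G) := by
      rw [← commutator_eq_bot_iff_le_centralizer]
      by_contra hne
      obtain ⟨Z, hZ, hZp⟩ := exists_prime_card_le hne
      have hZE3 : Z ≤ E3 := hZ.trans (commutator_le_of_le_normalizer hX'n)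
      have hZE : Z ≤ E := hZE3.trans hE3.1
      have hZτ : Nat.card Z ∈ Cfsg.tau3 M := hE3.2.1 _ hZp (card_dvd_of_le hZE3)
      have hZne : Cfsg.sigmaCore M ⊓ centralizer (Z : Set G) ≠ ⊥ := fun h =>
        hD (le_bot_iff.mp (h ▸ le_inf inf_le_left
          (hDE.trans (centralizer_le (SetLike.coe_subset_coe.2 hZE)))))
      have h4 := hG1 M hM E hE _ hZτ Z hZE rfl hZne t h1 X' hX'E ht
      have h5 := Cfsg.Agent.Lib.Helper69.commutator_inf_centralizer_eq_bot E3 X' hcomm hX'n hcop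
      have h6 : Z ≤ ⊥ := h5 ▸ le_inf hZ (le_centralizer_iff.mp h4)
      exact ne_bot_of_card_prime hZp (le_bot_iff.mp h6)
    refine ⟨?_, le_antisymm ?_ hge⟩
    · intro e he
      apply mem_normalizer_of_cj_le'
      apply le_left_of_le_sup_of_coprime hcent hcop.symm _ (card_cj e X')
      intro z hz
      have hx : e⁻¹ * z * e ∈ X' := mem_cj.mp hz
      have h7 : z = (e⁻¹ * z * e) * ⁅(e⁻¹ * z * e)⁻¹, e⁆ := by
        rw [commutatorElement_def]; group
      rw [h7]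
      exact mul_mem (le_sup_left (a := X') hx) (le_sup_right (a := X') (hE'E3
        (commutator_mem_commutator (inv_mem (hX'E hx)) he)))
    · have hXX' : X ≤ centralizer (X' : Set G) :=
        le_centralizer_iff.mp (hG1 M hM E hE p hp X hXE hX hD t h1 X' hX'E ht)
      have h8 := h28 M hM E hE t h1 X' hX'E ht X (le_inf hXE hXX') (hX ▸ hpp.out)
      exact le_inf inf_le_left (h8.trans hDE)
  · rw [hτ2] at h2; exact absurd h2 (Set.notMem_empty t)
  · refine ⟨tau3_normal hG hM hE h3 hX'E ht, le_antisymm ?_ hge⟩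
    by_cases hD' : Cfsg.sigmaCore M ⊓ centralizer (X' : Set G) = ⊥
    · rw [hD']; exact bot_le
    · exact le_inf inf_le_left
        (p11_cent hG h16 h17 h18 h27 hSP hb2 hG1 hM hE h3 hX'E ht hD')

end Cfsg.Agent.Lib.Helper27.BG14
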