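import Cfsg.Agent.Lib.Helper58.BG13a
import Cfsg.Agent.Lib.Helper31.BG1217

/-!
B-G Proposition 14.2 (d), (e), (f) (statement S1431) from the texts of S1423, S1425 and S1430.
-/

set_option autoImplicit false

namespace Cfsg.Agent.Lib.Helper27.BG14

open Subgroup Cfsg.Agent.Lib.Helper30 Cfsg.Agent.Lib.Helper2 Cfsg.Agent.Lib.Helper68
  Cfsg.Agent.Lib.Helper28.BG12
open scoped commutatorElement

universe u

variable {G : Type u} [Group G]

/-- text of S1423. -/
def T1423 (G : Type u) [Group G] : Prop :=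
  ∀ (M : Subgroup G), IsCoatom M → ∀ (p : ℕ) [Fact p.Prime], p ∈ Cfsg.sigma M →
    ∀ (X : Subgroup G), X ≤ M → Nat.card X = p → ∀ (P : Sylow p ↥(Cfsg.sigmaCore M)),
    (p ∈ Cfsg.beta M ∨ X ≤ ⁅Cfsg.sigmaCore M, Cfsg.sigmaCore M⁆) →
    (centralizer (X : Set G) ≤ M ∧
        ∀ L : Subgroup G, IsCoatom L → centralizer (X : Set G) ≤ L → L = M) ∧
      Cfsg.InUniqueMaximal ((P : Subgroup ↥(Cfsg.sigmaCore M)).map (Cfsg.sigmaCore M).subtype) ∧
      (P : Subgroup ↥(Cfsg.sigmaCore M)).map (Cfsg.sigmaCore M).subtype ≤ M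

/-- text of S1425. -/
def T1425 (G : Type u) [Group G] : Prop :=
  ∀ (M : Subgroup G), IsCoatom M → ∀ (Y : Subgroup G), Y ≠ ⊥ →
    (∀ p : ℕ, p.Prime → p ∣ Nat.card Y → p ∈ Cfsg.sigma M) →
    ∃ g : G, Y.map (MulAut.conj g).toMonoidHom ≤ Cfsg.sigmaCore M

/-- text of S1430. -/
def T1430 (G : Type u) [Group G] : Prop :=
  ∀ (M : Subgroup G), IsCoatom M → ∀ (K : Subgroup G), Cfsg.IsPiHallOf (Cfsg.kappa M) K M →
    K ≠ ⊥ →
    (∀ k ∈ K, k ≠ 1 → Cfsg.sigmaCore M ⊓ centralizer ({k} : Set G) =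
        (Cfsg.sigmaCore M ⊓ centralizer (K : Set G))) ∧
      (∃ U : Subgroup G, IsMulCommutative U ∧
        Cfsg.IsPiHallOf {q | q.Prime ∧ q ∉ Cfsg.kappa M ∧ q ∉ Cfsg.sigma M} U M ∧
        K ≤ normalizer (U : Set G) ∧ ∀ k ∈ K, k ≠ 1 → U ⊓ centralizer ({k} : Set G) = ⊥) ∧
      ∀ X : Subgroup G, X ≤ K → (Nat.card X).Prime →
        M ⊓ normalizer (X : Set G) = K ⊔ (Cfsg.sigmaCore M ⊓ centralizer (K : Set G)) ∧
        M ⊓ normalizer (K : Set G) = K ⊔ (Cfsg.sigmaCore M ⊓ centralizer (K : Set G)) ∧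
        ∀ Mstar : Subgroup G, IsCoatom Mstar → normalizer (X : Set G) ≤ Mstar →
          X ≤ Cfsg.sigmaCore Mstar

/-- a non-identity element has a power of prime order. -/
theorem exists_prime_order_mem_zpowers [Finite G] {x : G} (hx : x ≠ 1) :
    ∃ y ∈ zpowers x, (orderOf y).Prime := by
  have h1 : orderOf x ≠ 1 := fun h => hx (orderOf_eq_one_iff.mp h)
  have h0 : orderOf x ≠ 0 := (orderOf_pos x).ne'
  refine ⟨x ^ (orderOf x / (orderOf x).minFac), Subgroup.pow_mem _ (mem_zpowers x) _, ?_⟩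
  rw [orderOf_pow_orderOf_div h0 (Nat.minFac_dvd _)]
  exact Nat.minFac_prime h1

theorem exists_ne_one_of_ne_bot {H : Subgroup G} (h : H ≠ ⊥) : ∃ x ∈ H, x ≠ 1 := by
  obtain ⟨x, hx⟩ := Subgroup.ne_bot_iff_exists_ne_one.mp h
  exact ⟨x, x.2, fun h => hx (Subtype.ext h)⟩

/-- a nontrivial subgroup contains a subgroup of prime order. -/
theorem exists_prime_card_le [Finite G] {H : Subgroup G} (h : H ≠ ⊥) :
    ∃ X : Subgroup G, X ≤ H ∧ (Nat.card X).Prime := by
  obtain ⟨x, hx, hx1⟩ := exists_ne_one_of_ne_bot h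
  obtain ⟨y, hy, hyp⟩ := exists_prime_order_mem_zpowers hx1
  refine ⟨zpowers y, zpowers_le.mpr ((zpowers_le.mpr hx) hy), ?_⟩
  rwa [Nat.card_zpowers]

theorem isPGroup_of_card_prime {X : Subgroup G} {p : ℕ} [Fact p.Prime] (h : Nat.card X = p) :
    IsPGroup p X := IsPGroup.of_card (n := 1) (by rw [h, pow_one])

theorem ne_bot_of_card_prime {X : Subgroup G} (h : (Nat.card X).Prime) : X ≠ ⊥ := by
  rintro rfl
  rw [Subgroup.card_bot] at h
  exact Nat.not_prime_one h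

theorem mem_centralizer_sup {U K : Subgroup G} {z : G} (hU : z ∈ centralizer (U : Set G))
    (hK : z ∈ centralizer (K : Set G)) : z ∈ centralizer ((U ⊔ K : Subgroup G) : Set G) := by
  have h : U ⊔ K ≤ centralizer ({z} : Set G) := by
    refine sup_le (fun u hu => ?_) (fun k hk => ?_)
    · rw [mem_centralizer_singleton_iff]; exact mem_centralizer_iff.mp hU u hu
    · rw [mem_centralizer_singleton_iff]; exact mem_centralizer_iff.mp hK k hk
  rw [mem_centralizer_iff]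
  intro x hx
  exact mem_centralizer_singleton_iff.mp (h hx)

/-- `κ(M)`-numbers and `σ(M)`-numbers are coprime. -/
theorem coprime_kappa_sigma {M : Subgroup G} {a b : ℕ}
    (ha : ∀ p : ℕ, p.Prime → p ∣ a → p ∈ Cfsg.kappa M)
    (hb : ∀ p : ℕ, p.Prime → p ∣ b → p ∈ Cfsg.sigma M) : a.Coprime b :=
  Nat.coprime_of_dvd (fun p hp h1 h2 => (ha p hp h1).2.2.1 (hb p hp h2))

/-- `U K` is a complement of `M_σ` in `M`. -/
theorem isComplIn_sup [Finite G] (hG : Cfsg.IsMinSimpleOddOrder G) {M : Subgroup G}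
    (hM : IsCoatom M) {K U : Subgroup G} (hK : Cfsg.IsPiHallOf (Cfsg.kappa M) K M)
    (hU : Cfsg.IsPiHallOf {q | q.Prime ∧ q ∉ Cfsg.kappa M ∧ q ∉ Cfsg.sigma M} U M)
    (hKU : K ≤ normalizer (U : Set G)) : Cfsg.IsComplIn (U ⊔ K) (Cfsg.sigmaCore M) M := by
  apply isComplIn_of_isPiHallOf hG hM
  refine ⟨sup_le hU.1 hK.1, ?_, ?_⟩
  · intro r hr hrd
    have h1 := Cfsg.Agent.Lib.Helper12.card_sup_mul_card_inf' K U hKU
    rw [sup_comm] at hrd
    have h2 : r ∣ Nat.card K * Nat.card U := h1 ▸ Dvd.dvd.mul_right hrd _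
    rcases (Nat.Prime.dvd_mul hr).mp h2 with h | h
    · exact (hK.2.1 r hr h).2.2.1
    · exact (hU.2.1 r hr h).2.2
  · intro r hr hrσ hrd
    by_cases hrκ : r ∈ Cfsg.kappa M
    · exact hK.2.2 r hr hrκ (hrd.trans (relIndex_dvd_of_le_left M le_sup_right))
    · exact hU.2.2 r hr ⟨hr, hrκ, hrσ⟩ (hrd.trans (relIndex_dvd_of_le_left M le_sup_left))

/-- the key step: a `q`-subgroup of `C_{M_σ}(K)`, `q ∉ β(M)`, lies in `(M_σ)'`. -/
theorem le_commutator_of_not_mem_beta [Finite G] (hG : Cfsg.IsMinSimpleOddOrder G)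
    {M : Subgroup G} (hM : IsCoatom M) {K U : Subgroup G}
    (hK : Cfsg.IsPiHallOf (Cfsg.kappa M) K M) (hK1 : K ≠ ⊥)
    (hU : Cfsg.IsPiHallOf {q | q.Prime ∧ q ∉ Cfsg.kappa M ∧ q ∉ Cfsg.sigma M} U M)
    (hKU : K ≤ normalizer (U : Set G))
    (hreg : ∀ k ∈ K, k ≠ 1 → U ⊓ centralizer ({k} : Set G) = ⊥)
    {q : ℕ} [hq : Fact q.Prime] {Y : Subgroup G}
    (hY : Y ≤ Cfsg.sigmaCore M ⊓ centralizer (K : Set G)) (hYq : IsPGroup q Y) (hY1 : Y ≠ ⊥)
    (hqβ : q ∉ Cfsg.beta M) : Y ≤ ⁅Cfsg.sigmaCore M, Cfsg.sigmaCore M⁆ := by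
  have hMs := sigmaCore_hall hG hM
  have hE := isComplIn_sup hG hM hK hU hKU
  have hEM : U ⊔ K ≤ M := hE.1
  have hqMs : q ∣ Nat.card (Cfsg.sigmaCore M) :=
    (dvd_card_of_isPGroup_ne_bot hYq hY1).trans (card_dvd_of_le (hY.trans inf_le_left))
  have hqσ : q ∈ Cfsg.sigma M := hMs.2.1 q hq.out hqMs
  have hsolv : Group.IsSolvable (Cfsg.sigmaCore M) :=
    solvable_of_ne_top hG (ne_top_of_le_ne_top hM.1 (sigmaCore_le M))
  -- U ≤ E'
  obtain ⟨k, hk, hk1⟩ := exists_ne_one_of_ne_bot hK1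
  have hUE : U ≤ ⁅U ⊔ K, U ⊔ K⁆ := by
    have hZK : zpowers k ≤ K := zpowers_le.mpr hk
    have hcop : (Nat.card (zpowers k)).Coprime (Nat.card U) := by
      apply Nat.coprime_of_dvd
      intro p hp h1 h2
      exact (hU.2.1 p hp h2).2.1 (hK.2.1 p hp (h1.trans (card_dvd_of_le hZK)))
    have h := commutator_sup_centralizer (hZK.trans hKU) hcop
      (Or.inl (inferInstance : Group.IsSolvable (zpowers k)))
    have hc : U ⊓ centralizer ((zpowers k : Subgroup G) : Set G) = ⊥ := by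
      rw [eq_bot_iff, ← hreg k hk hk1]
      refine le_inf inf_le_left (fun x hx => ?_)
      rw [mem_centralizer_singleton_iff]
      exact (mem_centralizer_iff.mp (mem_inf.mp hx).2 k (mem_zpowers k)).symm
    rw [hc, sup_bot_eq] at h
    exact h.ge.trans (commutator_mono le_sup_left (hZK.trans le_sup_right))
  -- an E-invariant Sylow q-subgroup
  have hEN : U ⊔ K ≤ normalizer (Cfsg.sigmaCore M : Set G) := hEM.trans (le_normalizer_sigmaCore M)
  have hEσ : ∀ r : ℕ, r.Prime → r ∣ Nat.card (U ⊔ K : Subgroup G) → r ∉ Cfsg.sigma M :=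
    fun r hr hrd => not_mem_sigma_of_dvd_compl hG hM hE hr hrd
  have hcopE : (Nat.card (U ⊔ K : Subgroup G)).Coprime (Nat.card (Cfsg.sigmaCore M)) :=
    Nat.coprime_of_dvd (fun p hp h1 h2 => hEσ p hp h1 (hMs.2.1 p hp h2))
  obtain ⟨S, hS, hSE⟩ := exists_invariant_isSylowIn hEN hcopE (Or.inr hsolv) q
  have hS1 : S ≠ ⊥ := Cfsg.Agent.Lib.Helper58.BG13.ne_bot_of_isSylowIn_of_dvd hS hqMs
  have hE'S : ⁅U ⊔ K, U ⊔ K⁆ ≤ centralizer (S : Set G) := by
    apply Cfsg.Agent.Lib.Helper58.BG13.lemmaK hG hM hqβ hS.isPGroup hS1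
      (hS.le.trans (Cfsg.Agent.Lib.Helper31.sigmaCore_le_commutator hG hM))
      (commutator_mono hEM hEM) _ ((commutator_le_self _).trans hSE)
    rw [Nat.coprime_comm, hq.out.coprime_iff_not_dvd]
    intro h
    exact hEσ q hq.out (h.trans (card_dvd_of_le (commutator_le_self _))) hqσ
  -- conjugate Y into S
  have hKN : K ≤ normalizer (Cfsg.sigmaCore M : Set G) := le_sup_right.trans hEN
  have hcopK : (Nat.card K).Coprime (Nat.card (Cfsg.sigmaCore M)) :=
    Nat.Coprime.coprime_dvd_left (card_dvd_of_le le_sup_right) hcopE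
  have hYK : K ≤ normalizer (Y : Set G) := by
    have h1 : K ≤ centralizer (Y : Set G) := by
      rw [le_centralizer_iff]
      exact hY.trans inf_le_right
    exact h1.trans (centralizer_le_normalizer _)
  obtain ⟨S1, hS1', hYS1, hS1K⟩ := exists_invariant_isSylowIn_ge hKN hcopK (Or.inr hsolv) q
    (hY.trans inf_le_left) hYq hYK
  obtain ⟨c, hc, hS1c⟩ := invariant_isSylowIn_conj hKN hcopK (Or.inr hsolv) q hS hS1'
    (le_sup_right.trans hSE) hS1K
  intro y hy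
  have hy1 : y ∈ cj c S := hS1c ▸ hYS1 hy
  rw [mem_cj] at hy1
  have hzMs : c⁻¹ * y * c ∈ Cfsg.sigmaCore M := hS.le hy1
  have hzK : c⁻¹ * y * c ∈ centralizer (K : Set G) :=
    mul_mem (mul_mem (inv_mem (mem_inf.mp hc).2) (mem_inf.mp (hY hy)).2) (mem_inf.mp hc).2
  have hzU : c⁻¹ * y * c ∈ centralizer (U : Set G) := by
    rw [mem_centralizer_iff]
    intro u hu
    exact (mem_centralizer_iff.mp (hE'S (hUE hu)) _ hy1).symm
  have hz' := (Cfsg.Agent.Lib.Helper31.bg1217_ab hG hM hE).1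
    (mem_inf.mpr ⟨hzMs, mem_centralizer_sup hzU hzK⟩)
  have hyz : y = ⁅c, c⁻¹ * y * c⁆ * (c⁻¹ * y * c) := by
    rw [commutatorElement_def]; group
  rw [hyz]
  exact mul_mem (commutator_mem_commutator (mem_inf.mp hc).1 hzMs) hz'

/-- a subgroup of `K × D` (`K`, `D` commuting, of coprime orders) of exponent dividing `#K` lies
in `K`. -/
theorem le_left_of_le_sup_of_coprime [Finite G] {K D L : Subgroup G}
    (hD : D ≤ centralizer (K : Set G)) (hcop : (Nat.card K).Coprime (Nat.card D))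
    (hL : L ≤ K ⊔ D) (hc : Nat.card L = Nat.card K) : L ≤ K := by
  intro z hz
  have hKD : K ≤ normalizer (D : Set G) := by
    have h1 : K ≤ centralizer (D : Set G) := by
      rw [le_centralizer_iff]; exact hD
    exact h1.trans (centralizer_le_normalizer _)
  have hz' := hL hz
  rw [← SetLike.mem_coe, Subgroup.coe_mul_of_left_le_normalizer_right K D hKD, Set.mem_mul] at hz'
  obtain ⟨k, hk, d, hd, rfl⟩ := hz'
  have hz1 : (k * d) ^ Nat.card K = 1 := by
    have := pow_card_eq_one' (G := L) (x := ⟨k * d, hz⟩)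
    rw [hc] at this
    exact congrArg Subtype.val this
  have hcomm : Commute k d := mem_centralizer_iff.mp (hD hd) k hk
  have hk1 : k ^ Nat.card K = 1 := by
    have := pow_card_eq_one' (G := K) (x := ⟨k, hk⟩)
    exact congrArg Subtype.val this
  have hd1 : d ^ Nat.card K = 1 := by
    rw [hcomm.mul_pow, hk1, one_mul] at hz1
    exact hz1
  have hd2 : d ^ Nat.card D = 1 := by
    have := pow_card_eq_one' (G := D) (x := ⟨d, hd⟩)
    exact congrArg Subtype.val this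
  have h1 : orderOf d ∣ 1 := by
    have := Nat.dvd_gcd (orderOf_dvd_of_pow_eq_one hd1) (orderOf_dvd_of_pow_eq_one hd2)
    rwa [Nat.Coprime.gcd_eq_one hcop] at this
  have hd' : d = 1 := orderOf_eq_one_iff.mp (Nat.dvd_one.mp h1)
  rw [hd', mul_one]
  exact hk

/-- statement S1431 from the texts of S1423, S1425, S1430. -/
theorem S1431_of [Finite G] (hG : Cfsg.IsMinSimpleOddOrder G) (h23 : T1423 G) (h25 : T1425 G)
    (h30 : T1430 G) (M : Subgroup G) (hM : IsCoatom M) (K : Subgroup G)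
    (hK : Cfsg.IsPiHallOf (Cfsg.kappa M) K M) (hK1 : K ≠ ⊥) :
    (∀ g : G, g ∉ M → (Cfsg.sigmaCore M ⊓ centralizer (K : Set G)) ⊓
        M.map (MulAut.conj g).toMonoidHom = ⊥) ∧
      (∀ g ∈ M, g ∉ K ⊔ (Cfsg.sigmaCore M ⊓ centralizer (K : Set G)) →
        K ⊓ K.map (MulAut.conj g).toMonoidHom = ⊥) ∧
      (∀ (p : ℕ), p.Prime → p ∣ Nat.card ↥(Cfsg.sigmaCore M ⊓ centralizer (K : Set G)) →
        ∀ S : Sylow p ↥(Cfsg.sigmaCore M),
        Cfsg.InUniqueMaximal ((S : Subgroup ↥(Cfsg.sigmaCore M)).map (Cfsg.sigmaCore M).subtype) ∧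
        (S : Subgroup ↥(Cfsg.sigmaCore M)).map (Cfsg.sigmaCore M).subtype ≤ M ∧
        ¬ (S : Subgroup ↥(Cfsg.sigmaCore M)).map (Cfsg.sigmaCore M).subtype ≤
          (Cfsg.sigmaCore M ⊓ centralizer (K : Set G))) ∧
      ∀ Y : Subgroup G, (∀ p : ℕ, p.Prime → p ∣ Nat.card Y → p ∈ Cfsg.sigma M) →
        Y ⊓ (Cfsg.sigmaCore M ⊓ centralizer (K : Set G)) ≠ ⊥ → Y ≤ Cfsg.sigmaCore M := by
  obtain ⟨-, ⟨U, -, hU, hKU, hreg⟩, hN⟩ := h30 M hM K hK hK1
  have hMs := sigmaCore_hall hG hM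
  have key : ∀ X : Subgroup G, X ≤ Cfsg.sigmaCore M ⊓ centralizer (K : Set G) →
      ∀ (q : ℕ) [Fact q.Prime], Nat.card X = q → q ∈ Cfsg.sigma M ∧
      ∀ P : Sylow q ↥(Cfsg.sigmaCore M),
      (centralizer (X : Set G) ≤ M ∧
        ∀ L : Subgroup G, IsCoatom L → centralizer (X : Set G) ≤ L → L = M) ∧
      Cfsg.InUniqueMaximal ((P : Subgroup ↥(Cfsg.sigmaCore M)).map (Cfsg.sigmaCore M).subtype) ∧
      (P : Subgroup ↥(Cfsg.sigmaCore M)).map (Cfsg.sigmaCore M).subtype ≤ M := by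
    intro X hX q hq hXq
    have hqσ : q ∈ Cfsg.sigma M :=
      hMs.2.1 q hq.out (hXq ▸ card_dvd_of_le (hX.trans inf_le_left))
    refine ⟨hqσ, fun P => h23 M hM q hqσ X ((hX.trans inf_le_left).trans (sigmaCore_le M)) hXq P ?_⟩
    by_cases hqβ : q ∈ Cfsg.beta M
    · exact Or.inl hqβ
    · exact Or.inr (le_commutator_of_not_mem_beta hG hM hK hK1 hU hKU hreg hX
        (isPGroup_of_card_prime hXq) (ne_bot_of_card_prime (hXq ▸ hq.out)) hqβ)
  have fus : ∀ X : Subgroup G, X ≤ Cfsg.sigmaCore M ⊓ centralizer (K : Set G) →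
      (Nat.card X).Prime → ∀ g : G, cj g X ≤ M → g ∈ M := by
    intro X hX hXp g hg
    have : Fact (Nat.card X).Prime := ⟨hXp⟩
    obtain ⟨hqσ, hP⟩ := key X hX _ rfl
    obtain ⟨P⟩ : Nonempty (Sylow (Nat.card X) ↥(Cfsg.sigmaCore M)) := inferInstance
    have hC := (hP P).1.1
    obtain ⟨m, hm, c, hc, rfl⟩ := (Cfsg.Agent.S1404.result hG M hM _ hqσ X
      (isPGroup_of_card_prime rfl) (ne_bot_of_card_prime hXp)
      ((hX.trans inf_le_left).trans (sigmaCore_le M))).1 g hg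
    exact mul_mem hm (hC hc)
  refine ⟨?_, ?_, ?_, ?_⟩
  · intro g hg
    by_contra hne
    obtain ⟨X, hX, hXp⟩ := exists_prime_card_le hne
    apply hg
    have h1 : cj g⁻¹ X ≤ M := by
      have := cj_mono g⁻¹ (hX.trans inf_le_right)
      rwa [cj_inv_cj] at this
    have := fus X (hX.trans inf_le_left) hXp g⁻¹ h1
    simpa using inv_mem this
  · intro g hgM hg
    by_contra hne
    obtain ⟨X, hX, hXp⟩ := exists_prime_card_le hne
    apply hg
    have hXK : X ≤ K := hX.trans inf_le_left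
    have hX' : cj g⁻¹ X ≤ K := by
      have := cj_mono g⁻¹ (hX.trans inf_le_right)
      rwa [cj_inv_cj] at this
    have hX'p : (Nat.card (cj g⁻¹ X)).Prime := by rw [card_cj]; exact hXp
    have h1 := (hN X hXK hXp).1
    have h2 := (hN _ hX' hX'p).1
    have h3 := (hN X hXK hXp).2.1
    have h4 : K ≤ normalizer ((cj g⁻¹ X : Subgroup G) : Set G) :=
      (le_sup_left.trans h2.ge).trans inf_le_right
    have h5 : cj g K ≤ normalizer (X : Set G) := by
      have := cj_mono g h4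
      rwa [← normalizer_cj, cj_cj_inv] at this
    have h6 : cj g K ≤ K ⊔ (Cfsg.sigmaCore M ⊓ centralizer (K : Set G)) := by
      rw [← h1]
      refine le_inf ?_ h5
      have := cj_mono g hK.1
      rwa [cj_eq_of_mem hgM] at this
    have hcop : (Nat.card K).Coprime
        (Nat.card (Cfsg.sigmaCore M ⊓ centralizer (K : Set G) : Subgroup G)) :=
      coprime_kappa_sigma hK.2.1
        (fun p hp h => hMs.2.1 p hp (h.trans (card_dvd_of_le inf_le_left)))
    have h7 : cj g K ≤ K := le_left_of_le_sup_of_coprime inf_le_right hcop h6 (card_cj g K)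
    rw [← h3]
    exact mem_inf.mpr ⟨hgM, mem_normalizer_of_cj_le' h7⟩
  · intro p hp hpD S
    have : Fact p.Prime := ⟨hp⟩
    obtain ⟨y, hy⟩ := exists_prime_orderOf_dvd_card'
      (G := (Cfsg.sigmaCore M ⊓ centralizer (K : Set G) : Subgroup G)) p hpD
    have hXc : Nat.card (zpowers (y : G)) = p := by
      rw [Nat.card_zpowers, Subgroup.orderOf_coe, hy]
    obtain ⟨-, hP⟩ := key (zpowers (y : G)) (zpowers_le.mpr y.2) p hXc
    obtain ⟨-, h2, h3⟩ := hP S
    refine ⟨h2, h3, fun hSD => ?_⟩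
    obtain ⟨X0, hX0, hX0p⟩ := exists_prime_card_le hK1
    have hX01 := ne_bot_of_card_prime hX0p
    have hX0top : X0 ≠ ⊤ := ne_top_of_le_ne_top hM.1 (hX0.trans hK.1)
    obtain ⟨H, hH, hNH⟩ := exists_coatom_ge (normalizer_ne_top hG hX01 hX0top)
    have hSH : (S : Subgroup ↥(Cfsg.sigmaCore M)).map (Cfsg.sigmaCore M).subtype ≤ H :=
      (((hSD.trans inf_le_right).trans (centralizer_le (SetLike.coe_subset_coe.2 hX0))).trans
        (centralizer_le_normalizer _)).trans hNH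
    have hHM : H = M := uniq_eq h2 hM h3 hH hSH
    have hX0σ := (hN X0 hX0 hX0p).2.2 H hH hNH
    rw [hHM] at hX0σ
    exact (hK.2.1 _ hX0p (card_dvd_of_le hX0)).2.2.1 (hMs.2.1 _ hX0p (card_dvd_of_le hX0σ))
  · intro Y hY hYD
    have hY1 : Y ≠ ⊥ := fun h => hYD (by rw [h, bot_inf_eq])
    obtain ⟨g, hg⟩ := h25 M hM Y hY1 hY
    obtain ⟨X, hX, hXp⟩ := exists_prime_card_le hYD
    have hgM : g ∈ M := fus X (hX.trans inf_le_right) hXp g
      ((cj_mono g (hX.trans inf_le_left)).trans (hg.trans (sigmaCore_le M)))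
    have h1 := cj_mono g⁻¹ hg
    rw [cj_inv_cj, cj_eq_of_mem_normalizer (le_normalizer_sigmaCore M (inv_mem hgM))] at h1
    exact h1

end Cfsg.Agent.Lib.Helper27.BG14
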