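import Cfsg.Agent.Lib.Helper28.BG12b
import Cfsg.Agent.Lib.Helper5.Conj
import Cfsg.Agent.S0033

/-!
B-G Lemma 14.1 (statement S1429) from the text of S1417 and Thompson's theorem (S0033).
-/

set_option autoImplicit false

namespace Cfsg.Agent.Lib.Helper27.BG14

open Subgroup Cfsg.Agent.Lib.Helper30 Cfsg.Agent.Lib.Helper2 Cfsg.Agent.Lib.Helper68
  Cfsg.Agent.Lib.Helper28.BG12

universe u

variable {G : Type u} [Group G]

/-- a normal subgroup admitting a fixed-point-free conjugation of prime order is nilpotent. -/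
theorem nilpotent_of_regular_elt {M : Type u} [Group M] [Finite M] (N : Subgroup M) [N.Normal]
    {p : ℕ} (hp : p.Prime) (x : M) (hx : x ^ p = 1)
    (hreg : ∀ y ∈ N, x * y = y * x → y = 1) : Group.IsNilpotent N := by
  by_cases hN : N = ⊥
  · subst hN
    infer_instance
  have hfix : ∀ y : N, MulAut.conjNormal x y = y → y = 1 := by
    intro y hy
    have h1 : x * (y : M) * x⁻¹ = y := by
      have := congrArg Subtype.val hy
      simpa [MulAut.conjNormal_apply] using this
    have h2 : x * (y : M) = y * x := by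
      calc x * (y : M) = x * y * x⁻¹ * x := by group
        _ = y * x := by rw [h1]
    exact Subtype.ext (hreg y y.2 h2)
  refine Cfsg.Agent.S0033.result (MulAut.conjNormal x : MulAut N) (fun y hy => hfix y hy) p hp ?_
  have : Fact p.Prime := ⟨hp⟩
  apply orderOf_eq_prime
  · rw [← map_pow, hx, map_one]
  · intro h1
    obtain ⟨y, hy1⟩ := (Subgroup.ne_bot_iff_exists_ne_one).mp hN
    exact hy1 (hfix y (by rw [h1]; rfl))

theorem S1429_of [Finite G] (hG : Cfsg.IsMinSimpleOddOrder G) (h17 : T1417 G)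
    (M : Subgroup G) (hM : IsCoatom M) (p : ℕ) [hpp : Fact p.Prime] (hpM : p ∣ Nat.card M)
    (hp : p ∉ Cfsg.sigma M ∪ Cfsg.kappa M) (S : Sylow p M) :
    Nat.card ↥(closure {x : G | x ∈ (S : Subgroup M).map M.subtype ∧ x ^ p = 1}) ≤ p ^ 2 ∧
      Cfsg.sigmaCore M ⊓ centralizer ((closure {x : G | x ∈ (S : Subgroup M).map M.subtype ∧
        x ^ p = 1} : Subgroup G) : Set G) = ⊥ ∧
      Group.IsNilpotent (Cfsg.sigmaCore M) := by
  have hps : p ∉ Cfsg.sigma M := fun h => hp (Or.inl h)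
  have hpk : p ∉ Cfsg.kappa M := fun h => hp (Or.inr h)
  by_cases h1 : Cfsg.PRankLE p 1 M
  · have hp2 : p ≠ 2 := Cfsg.Agent.Lib.Helper40.BG12.ne_two_of_dvd_odd hG.1
      (hpM.trans (card_subgroup_dvd_card M))
    have hcyc : ∀ P : Sylow p M, IsCyclic (P : Subgroup M) := fun P =>
      Cfsg.Agent.Lib.Helper40.BG12.isCyclic_of_isPGroup_rank_one (G := M) hp2 h1 P P.2
    -- regularity of some Sylow subgroup
    have hex : ∃ P : Sylow p M, ∀ x : M, x ∈ (P : Subgroup M) → x ≠ 1 →
        ∀ y ∈ Cfsg.sigmaCore M, y ≠ 1 → (x : G) * y ≠ y * x := by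
      by_contra hcon
      push Not at hcon
      apply hpk
      refine ⟨hpp.out, hpM, hps, fun P => ⟨hcyc P, ?_⟩⟩
      obtain ⟨x, hx, hx1, y, hy, hy1, hxy⟩ := hcon P
      exact ⟨x, hx, hx1, y, hy, hy1, hxy⟩
    obtain ⟨P, hP⟩ := hex
    obtain ⟨m, hm⟩ := MulAction.exists_smul_eq M S P
    have hreg : ∀ x : M, x ∈ (S : Subgroup M) → x ≠ 1 →
        ∀ y ∈ Cfsg.sigmaCore M, (x : G) * y = y * x → y = 1 := by
      intro x hx hx1 y hy hxy
      by_contra hy1
      have hx' : m * x * m⁻¹ ∈ (P : Subgroup M) := by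
        rw [← hm, Sylow.coe_subgroup_smul]
        exact ⟨x, hx, rfl⟩
      have hy' : (m : G) * y * (m : G)⁻¹ ∈ Cfsg.sigmaCore M :=
        ((mem_normalizer_iff.mp (le_normalizer_sigmaCore M m.2)) y).mp hy
      refine hP _ hx' (fun h => hx1 ?_) _ hy' (fun h => hy1 ?_) ?_
      · have : x = m⁻¹ * (m * x * m⁻¹) * m := by group
        rw [this, h]; group
      · have : y = (m : G)⁻¹ * ((m : G) * y * (m : G)⁻¹) * m := by group
        rw [this, h]; group
      · simp only [Subgroup.coe_mul, Subgroup.coe_inv]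
        calc (m : G) * x * (m : G)⁻¹ * (m * y * (m : G)⁻¹) = m * ((x : G) * y) * (m : G)⁻¹ := by group
          _ = m * (y * (x : G)) * (m : G)⁻¹ := by rw [hxy]
          _ = _ := by group
    -- an element of order p in S
    have hpS : p ∣ Nat.card (S : Subgroup M) := S.dvd_card_of_dvd_card hpM
    obtain ⟨x0, hx0⟩ := exists_prime_orderOf_dvd_card' (G := (S : Subgroup M)) p hpS
    have hx01 : (x0 : M) ≠ 1 := by
      intro h
      have : x0 = 1 := Subtype.ext h
      rw [this, orderOf_one] at hx0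
      exact hpp.out.one_lt.ne hx0
    have hx0p : (x0 : M) ^ p = 1 := by
      have := pow_orderOf_eq_one x0
      rw [hx0] at this
      exact congrArg Subtype.val this
    set Ω := closure {x : G | x ∈ (S : Subgroup M).map M.subtype ∧ x ^ p = 1} with hΩ
    have hΩmem : ∀ x ∈ Ω, x ∈ (S : Subgroup M).map M.subtype ∧ x ^ p = 1 := by
      intro x hx
      induction hx using closure_induction with
      | mem x hx => exact hx
      | one => exact ⟨one_mem _, one_pow _⟩
      | mul a b _ _ ha hb =>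
        refine ⟨mul_mem ha.1 hb.1, ?_⟩
        obtain ⟨a', ha', rfl⟩ := ha.1
        obtain ⟨b', hb', rfl⟩ := hb.1
        have hc := comm_of_isCyclic (hcyc S) ⟨a', ha'⟩ ⟨b', hb'⟩
        have hc' : (M.subtype a') * (M.subtype b') = (M.subtype b') * (M.subtype a') :=
          congrArg (fun z : ↥(S : Subgroup M) => ((z : ↥M) : G)) hc
        have hcm : Commute (M.subtype a') (M.subtype b') := hc'
        rw [hcm.mul_pow, ha.2, hb.2, one_mul]
      | inv a _ ha => exact ⟨inv_mem ha.1, by rw [inv_pow, ha.2, inv_one]⟩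
    have hΩea : Cfsg.IsElementaryAbelian p Ω := by
      refine ⟨⟨⟨fun a b => ?_⟩⟩, fun a ha => (hΩmem a ha).2⟩
      obtain ⟨a', ha', hae⟩ := (hΩmem a a.2).1
      obtain ⟨b', hb', hbe⟩ := (hΩmem b b.2).1
      have hc := comm_of_isCyclic (hcyc S) ⟨a', ha'⟩ ⟨b', hb'⟩
      have hc' : (M.subtype a') * (M.subtype b') = (M.subtype b') * (M.subtype a') :=
        congrArg (fun z : ↥(S : Subgroup M) => ((z : ↥M) : G)) hc
      apply Subtype.ext
      simp only [Subgroup.coe_mul]
      rw [← hae, ← hbe]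
      exact hc'
    have hΩM : Ω ≤ M := fun x hx => (map_subtype_le _) (hΩmem x hx).1
    have hx0Ω : ((x0 : M) : G) ∈ Ω := by
      apply Subgroup.subset_closure
      refine ⟨⟨x0, x0.2, rfl⟩, ?_⟩
      have := congrArg Subtype.val hx0p
      simpa using this
    refine ⟨?_, ?_, ?_⟩
    · calc Nat.card Ω ≤ p ^ 1 := card_le_of_pRankLE h1 hΩM hΩea
        _ ≤ p ^ 2 := Nat.pow_le_pow_right hpp.out.pos (by norm_num)
    · rw [eq_bot_iff]
      intro y hy
      rw [mem_bot]
      have hc := (mem_centralizer_iff.mp (mem_inf.mp hy).2) _ hx0Ω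
      exact hreg x0 x0.2 hx01 y (mem_inf.mp hy).1 hc
    · have hn : Group.IsNilpotent (Cfsg.piCore (Cfsg.sigma M) M) := by
        apply nilpotent_of_regular_elt (Cfsg.piCore (Cfsg.sigma M) M) hpp.out (x0 : M) hx0p
        intro y hy hxy
        have := hreg x0 x0.2 hx01 (y : G) ⟨y, hy, rfl⟩ (congrArg Subtype.val hxy)
        exact Subtype.ext this
      exact (Group.isNilpotent_congr
        ((Cfsg.piCore (Cfsg.sigma M) M).equivMapOfInjective M.subtype M.subtype_injective)).mp hn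
  · have ht : p ∈ Cfsg.tau2 M :=
      ⟨hpp.out, hps, pRankLE_two_of_not_mem_sigma hG hM hpp.out hps, h1⟩
    obtain ⟨A0, hA0M, hA0, hc0⟩ := exists_ea_sq_of_tau2 ht
    obtain ⟨m, hm, hle⟩ := Cfsg.Agent.Lib.Helper5.exists_cj_le_sylow_map S (ea_isPGroup hA0) hA0M
    have hA : cj m A0 ≤ M ∧ Cfsg.IsElementaryAbelian p (cj m A0) ∧ Nat.card (cj m A0) = p ^ 2 :=
      ⟨hle.trans (map_subtype_le _), ea_cj hA0 m, by rw [card_cj, hc0]⟩
    obtain ⟨hn, hS, -, hC, -, -⟩ := h17 M hM p ht _ hA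
    have hΩ := ((hS S).2 hle).1
    have hcl : closure {x : G | x ∈ (S : Subgroup M).map M.subtype ∧ x ^ p = 1} = cj m A0 := by
      apply le_antisymm
      · rw [closure_le]
        rintro x ⟨hx, hxp⟩
        exact (hΩ x hx).1 hxp
      · intro x hx
        exact Subgroup.subset_closure ⟨hle hx, (hΩ x (hle hx)).2 hx⟩
    rw [hcl]
    exact ⟨hA.2.2.le, hC, hn⟩

end Cfsg.Agent.Lib.Helper27.BG14
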