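import Cfsg.Agent.Lib.Helper27.BG14b
import Cfsg.Agent.Lib.Helper28.BG16a
import Cfsg.Agent.Lib.Helper98.FW.Thompson
import Cfsg.Agent.S1415

/-!
B-G Proposition 14.2 (a), (b) (statement S1430): assembly from the texts of S1417, S1418, S1427,
S1428 and three unlisted facts of B-G section 13 (`P12`, `P11`, `Pb2`).
-/

set_option autoImplicit false

namespace Cfsg.Agent.Lib.Helper27.BG14

open Subgroup Cfsg.Agent.Lib.Helper30 Cfsg.Agent.Lib.Helper2 Cfsg.Agent.Lib.Helper68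
  Cfsg.Agent.Lib.Helper28.BG12
open scoped commutatorElement

universe u

variable {G : Type u} [Group G]

/-- text of S1427. -/
def T1427 (G : Type u) [Group G] : Prop :=
  ∀ (M : Subgroup G), IsCoatom M → ∀ (E : Subgroup G), Cfsg.IsComplIn E (Cfsg.sigmaCore M) M →
    ∀ (p : ℕ) [Fact p.Prime] (S : Sylow p E), (S : Subgroup E) ≠ ⊥ → IsCyclic (S : Subgroup E) →
    ∀ x ∈ (S : Subgroup E).map E.subtype, x ≠ 1 →
      Cfsg.sigmaCore M ⊓ centralizer ({x} : Set G) =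
        Cfsg.sigmaCore M ⊓ centralizer (((S : Subgroup E).map E.subtype : Subgroup G) : Set G)

/-- text of S1428. -/
def T1428 (G : Type u) [Group G] : Prop :=
  ∀ (M : Subgroup G), IsCoatom M → ∀ (E : Subgroup G), Cfsg.IsComplIn E (Cfsg.sigmaCore M) M →
    ∀ (p : ℕ), p ∈ Cfsg.tau1 M → ∀ (P : Subgroup G), P ≤ E → Nat.card P = p →
    ∀ (R : Subgroup G), R ≤ E ⊓ centralizer (P : Set G) → (Nat.card R).Prime →
      Cfsg.sigmaCore M ⊓ centralizer (P : Set G) ≤ Cfsg.sigmaCore M ⊓ centralizer (R : Set G)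

/-- B-G Lemma 13.12. -/
def P12 (G : Type u) [Group G] : Prop :=
  ∀ (M : Subgroup G), IsCoatom M → ∀ (E : Subgroup G), Cfsg.IsComplIn E (Cfsg.sigmaCore M) M →
    ∀ (p : ℕ), p ∈ Cfsg.tau1 M → ∀ (P : Subgroup G), P ≤ E → Nat.card P = p →
    ∀ (q : ℕ), q ∈ Cfsg.tau2 M → ∀ (A : Subgroup G), A ≤ E → Cfsg.IsElementaryAbelian q A →
      Nat.card A = q ^ 2 → A ⊓ centralizer (P : Set G) ≠ ⊥ →
      Cfsg.sigmaCore M ⊓ centralizer (P : Set G) = ⊥

/-- B-G Theorem 13.10 and Corollary 13.11. -/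
def P11 (G : Type u) [Group G] : Prop :=
  ∀ (M : Subgroup G), IsCoatom M → ∀ (E : Subgroup G), Cfsg.IsComplIn E (Cfsg.sigmaCore M) M →
    ∀ (p : ℕ), p ∈ Cfsg.tau3 M → ∀ (X : Subgroup G), X ≤ E → Nat.card X = p →
    Cfsg.sigmaCore M ⊓ centralizer (X : Set G) ≠ ⊥ →
    Cfsg.tau2 M = ∅ ∧ ∀ X' : Subgroup G, X' ≤ E → (Nat.card X').Prime →
      E ≤ normalizer (X' : Set G) ∧
      Cfsg.sigmaCore M ⊓ centralizer (X' : Set G) = Cfsg.sigmaCore M ⊓ centralizer (E : Set G)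

/-- the second half of B-G Proposition 14.2(b). -/
def Pb2 (G : Type u) [Group G] : Prop :=
  ∀ (M : Subgroup G), IsCoatom M → ∀ (p : ℕ), p ∈ Cfsg.kappa M → ∀ (X : Subgroup G), X ≤ M →
    Nat.card X = p → ∀ (H : Subgroup G), IsCoatom H → normalizer (X : Set G) ≤ H →
    p ∈ Cfsg.sigma H

/-! ### general lemmas -/

theorem centralizer_singleton_le_centralizer_zpowers {k y : G} (hy : y ∈ zpowers k) :
    centralizer ({k} : Set G) ≤ centralizer ((zpowers y : Subgroup G) : Set G) := by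
  intro c hc
  rw [mem_centralizer_singleton_iff] at hc
  have h1 : zpowers k ≤ centralizer ({c} : Set G) := by
    rw [zpowers_le, mem_centralizer_singleton_iff]
    exact hc.symm
  rw [mem_centralizer_iff]
  intro z hz
  exact mem_centralizer_singleton_iff.mp (h1 ((zpowers_le.mpr hy) hz))

theorem centralizer_zpowers_eq (x : G) :
    centralizer ((zpowers x : Subgroup G) : Set G) = centralizer ({x} : Set G) :=
  le_antisymm (centralizer_le (by
    intro z hz
    rw [Set.mem_singleton_iff] at hz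
    rw [hz]; exact mem_zpowers x))
    (centralizer_singleton_le_centralizer_zpowers (mem_zpowers x))

/-- a subgroup of order `p ∈ κ(M)` of `M` centralizes a non-identity element of `M_σ`. -/
theorem centralizer_ne_bot_of_kappa [Finite G] {M X : Subgroup G} {p : ℕ}
    (hp : p ∈ Cfsg.kappa M) (hXM : X ≤ M) (hX : Nat.card X = p) :
    Cfsg.sigmaCore M ⊓ centralizer (X : Set G) ≠ ⊥ := by
  have hpp : Fact p.Prime := ⟨hp.1⟩
  have hXp : IsPGroup p X := isPGroup_of_card_prime hX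
  obtain ⟨P, hP⟩ := (hXp.comap_subtype (K := M)).exists_le_sylow
  obtain ⟨hc, x, hx, hx1, y, hy, hy1, hxy⟩ := hp.2.2.2 P
  have hle : X.subgroupOf M ≤ zpowers x := by
    intro z hz
    apply mem_of_pow_eq_one_of_le_cyclic hc (zpowers_le.mpr hx) (hP hz)
    rw [Nat.card_zpowers]
    have hzp : z ^ p = 1 := by
      have := pow_card_eq_one' (G := X) (x := ⟨z, mem_subgroupOf.mp hz⟩)
      rw [hX] at this
      have h2 : ((z : G)) ^ p = 1 := congrArg Subtype.val this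
      exact Subtype.ext (by simpa using h2)
    have hpd : p ∣ orderOf x := by
      obtain ⟨k, hk⟩ := P.2 ⟨x, hx⟩
      have hk' : x ^ p ^ k = 1 := congrArg Subtype.val hk
      obtain ⟨j, -, hj⟩ := (Nat.dvd_prime_pow hpp.out).mp (orderOf_dvd_of_pow_eq_one hk')
      rcases Nat.eq_zero_or_pos j with rfl | hj0
      · rw [pow_zero, orderOf_eq_one_iff] at hj
        exact absurd hj hx1
      · rw [hj]; exact dvd_pow_self p hj0.ne'
    obtain ⟨c, hc'⟩ := hpd
    rw [hc', pow_mul, hzp, one_pow]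
  intro hbot
  apply hy1
  have : y ∈ Cfsg.sigmaCore M ⊓ centralizer (X : Set G) := by
    refine mem_inf.mpr ⟨hy, ?_⟩
    rw [mem_centralizer_iff]
    intro z hz
    obtain ⟨n, hn⟩ := mem_zpowers_iff.mp (hle (mem_subgroupOf.mpr hz : (⟨z, hXM hz⟩ : M) ∈ _))
    have hz' : z = (x : G) ^ n := by
      have := congrArg Subtype.val hn
      simpa using this.symm
    rw [hz']
    have hcm : Commute (x : G) y := hxy
    exact (hcm.zpow_left n)
  rwa [hbot, mem_bot] at this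

theorem eq_of_hall_le [Finite G] {π : Set ℕ} {K E M : Subgroup G} (hK : Cfsg.IsPiHallOf π K M)
    (hKE : K ≤ E) (hEM : E ≤ M) (h : ∀ r : ℕ, r.Prime → r ∣ Nat.card E → r ∈ π) : K = E := by
  apply le_antisymm hKE
  rw [← relIndex_eq_one]
  by_contra hne
  obtain ⟨r, hr, hrd⟩ := Nat.exists_prime_and_dvd hne
  apply hK.2.2 r hr (h r hr (hrd.trans (relIndex_dvd_card K E)))
  rw [← relIndex_mul_relIndex K E M hKE hEM]
  exact Dvd.dvd.mul_right hrd _

/-- elements of `N_M(Y)`, `Y ≤ E`. -/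
theorem exists_mul_of_mem_normalizer {M E S Y : Subgroup G} (hE : Cfsg.IsComplIn E S M)
    (hS : M ≤ normalizer (S : Set G)) (hYE : Y ≤ E) {m : G} (hm : m ∈ M)
    (hmY : m ∈ normalizer (Y : Set G)) :
    ∃ a ∈ E ⊓ normalizer (Y : Set G), ∃ b ∈ S ⊓ centralizer (Y : Set G), m = a * b := by
  obtain ⟨a, ha, b, hb, rfl⟩ := hE.2.2.2 m hm
  have hbC : b ∈ centralizer (Y : Set G) := by
    rw [mem_centralizer_iff]
    intro y hy
    have h1 : a * b * y * (a * b)⁻¹ ∈ E := hYE ((mem_normalizer_iff.mp hmY y).mp hy)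
    have h2 : b * y * b⁻¹ ∈ E := by
      have := mul_mem (mul_mem (inv_mem ha) h1) ha
      rwa [show a⁻¹ * (a * b * y * (a * b)⁻¹) * a = b * y * b⁻¹ by group] at this
    have h3 : b * y * b⁻¹ * y⁻¹ ∈ E := mul_mem h2 (inv_mem (hYE hy))
    have h4 : b * y * b⁻¹ * y⁻¹ ∈ S := by
      have h5 : y * b⁻¹ * y⁻¹ ∈ S :=
        (mem_normalizer_iff.mp (hS (hE.1 (hYE hy))) b⁻¹).mp (inv_mem hb)
      have := mul_mem hb h5
      rwa [show b * (y * b⁻¹ * y⁻¹) = b * y * b⁻¹ * y⁻¹ by group] at this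
    have h6 : b * y * b⁻¹ * y⁻¹ ∈ E ⊓ S := mem_inf.mpr ⟨h3, h4⟩
    rw [hE.2.2.1, mem_bot] at h6
    calc y * b = (b * y * b⁻¹ * y⁻¹)⁻¹ * (b * y) := by group
      _ = b * y := by rw [h6, inv_one, one_mul]
  refine ⟨a, mem_inf.mpr ⟨ha, ?_⟩, b, mem_inf.mpr ⟨hb, hbC⟩, rfl⟩
  have := mul_mem hmY (inv_mem (centralizer_le_normalizer _ hbC))
  rwa [mul_inv_cancel_right] at this

/-- the conclusion of S1430. -/
abbrev C1430 (M K : Subgroup G) : Prop :=
  (∀ k ∈ K, k ≠ 1 → Cfsg.sigmaCore M ⊓ centralizer ({k} : Set G) =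
      (Cfsg.sigmaCore M ⊓ centralizer (K : Set G))) ∧
    (∃ U : Subgroup G, IsMulCommutative U ∧
      Cfsg.IsPiHallOf {q | q.Prime ∧ q ∉ Cfsg.kappa M ∧ q ∉ Cfsg.sigma M} U M ∧
      K ≤ normalizer (U : Set G) ∧ ∀ k ∈ K, k ≠ 1 → U ⊓ centralizer ({k} : Set G) = ⊥) ∧
    ∀ X : Subgroup G, X ≤ K → (Nat.card X).Prime →
      M ⊓ normalizer (X : Set G) = K ⊔ (Cfsg.sigmaCore M ⊓ centralizer (K : Set G)) ∧
      M ⊓ normalizer (K : Set G) = K ⊔ (Cfsg.sigmaCore M ⊓ centralizer (K : Set G)) ∧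
      ∀ Mstar : Subgroup G, IsCoatom Mstar → normalizer (X : Set G) ≤ Mstar →
        X ≤ Cfsg.sigmaCore Mstar

theorem le_sigmaCore_of_Pb2 [Finite G] (hG : Cfsg.IsMinSimpleOddOrder G) (hb2 : Pb2 G)
    {M K X : Subgroup G} (hM : IsCoatom M) (hK : Cfsg.IsPiHallOf (Cfsg.kappa M) K M)
    (hXK : X ≤ K) (hXp : (Nat.card X).Prime) :
    ∀ Mstar : Subgroup G, IsCoatom Mstar → normalizer (X : Set G) ≤ Mstar →
      X ≤ Cfsg.sigmaCore Mstar := by
  intro H hH hNH
  have : Fact (Nat.card X).Prime := ⟨hXp⟩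
  have hκ := hK.2.1 _ hXp (card_dvd_of_le hXK)
  have hσ := hb2 M hM _ hκ X (hXK.trans hK.1) rfl H hH hNH
  exact isPGroup_le_sigmaCore hG hH hσ (le_normalizer.trans hNH) (isPGroup_of_card_prime rfl)

/-- a prime dividing `#M`, outside `σ(M)`, divides the order of a complement of `M_σ`. -/
theorem dvd_card_compl [Finite G] (hG : Cfsg.IsMinSimpleOddOrder G) {M E : Subgroup G}
    (hM : IsCoatom M) (hE : Cfsg.IsComplIn E (Cfsg.sigmaCore M) M) {q : ℕ} (hq : q.Prime)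
    (hqM : q ∣ Nat.card M) (hqσ : q ∉ Cfsg.sigma M) : q ∣ Nat.card E := by
  rw [card_eq_card_mul_relIndex hE.1, ← card_compl' hE] at hqM
  exact (hq.dvd_mul.mp hqM).resolve_right
    (fun h => hqσ ((sigmaCore_hall hG hM).2.1 q hq h))

/-- Case B: some prime of `κ(M)` lies in `τ₃(M)`. -/
theorem caseB [Finite G] (hG : Cfsg.IsMinSimpleOddOrder G) (h11 : P11 G) (hb2 : Pb2 G)
    {M K : Subgroup G} (hM : IsCoatom M) (hK : Cfsg.IsPiHallOf (Cfsg.kappa M) K M)
    {p : ℕ} (hpκ : p ∈ Cfsg.kappa M) (hp3 : p ∈ Cfsg.tau3 M) : C1430 M K := by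
  have hpp : Fact p.Prime := ⟨hpκ.1⟩
  obtain ⟨E, hE, hKE⟩ := exists_compl_ge hG hM hK.1 (fun q hq hqd => (hK.2.1 q hq hqd).2.2.1)
  have hpK : p ∣ Nat.card K := dvd_card_of_hall hK hpκ.1 hpκ hpκ.2.1
  obtain ⟨x0, hx0⟩ := exists_prime_orderOf_dvd_card' (G := K) p hpK
  have hXc : Nat.card (zpowers (x0 : G)) = p := by
    rw [Nat.card_zpowers, Subgroup.orderOf_coe, hx0]
  have hXK : zpowers (x0 : G) ≤ K := zpowers_le.mpr x0.2
  have hne := centralizer_ne_bot_of_kappa hpκ (hXK.trans hK.1) hXc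
  obtain ⟨hτ2, hall⟩ := h11 M hM E hE p hp3 _ (hXK.trans hKE) hXc hne
  have hD : Cfsg.sigmaCore M ⊓ centralizer (E : Set G) ≠ ⊥ := by
    rw [← (hall _ (hXK.trans hKE) (hXc ▸ hpp.out)).2]; exact hne
  have hπ : ∀ r : ℕ, r.Prime → r ∣ Nat.card E → r ∈ Cfsg.kappa M := by
    intro r hr hrE
    have : Fact r.Prime := ⟨hr⟩
    have hrσ := not_mem_sigma_of_dvd_compl hG hM hE hr hrE
    have hr1 : Cfsg.PRankLE r 1 M := by
      by_contra h
      have h2 : r ∈ Cfsg.tau2 M := ⟨hr, hrσ, pRankLE_two_of_not_mem_sigma hG hM hr hrσ, h⟩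
      rw [hτ2] at h2
      exact h2
    obtain ⟨x, hx⟩ := exists_prime_orderOf_dvd_card' (G := E) r hrE
    obtain ⟨y, hy, hy1⟩ := exists_ne_one_of_ne_bot hD
    exact mem_kappa_of hG hrσ hr1 (hE.1 x.2) (by rw [Subgroup.orderOf_coe, hx]) (mem_inf.mp hy).1
      hy1 (mem_centralizer_iff.mp (mem_inf.mp hy).2 x x.2)
  have hKeq : K = E := eq_of_hall_le hK hKE hE.1 hπ
  subst hKeq
  have hnorm : ∀ Y : Subgroup G, Y ≤ K → K ≤ normalizer (Y : Set G) →
      Cfsg.sigmaCore M ⊓ centralizer (Y : Set G) = Cfsg.sigmaCore M ⊓ centralizer (K : Set G) →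
      M ⊓ normalizer (Y : Set G) = K ⊔ (Cfsg.sigmaCore M ⊓ centralizer (K : Set G)) := by
    intro Y hYK hN hC
    apply le_antisymm
    · intro m hm
      obtain ⟨a, ha, b, hb, rfl⟩ := exists_mul_of_mem_normalizer hE (le_normalizer_sigmaCore M) hYK
        (mem_inf.mp hm).1 (mem_inf.mp hm).2
      rw [hC] at hb
      exact mul_mem (mem_sup_left (mem_inf.mp ha).1) (mem_sup_right hb)
    · refine sup_le (le_inf hE.1 hN) (le_inf (inf_le_left.trans (sigmaCore_le M)) ?_)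
      exact (inf_le_right.trans (centralizer_le (SetLike.coe_subset_coe.2 hYK))).trans
        (centralizer_le_normalizer _)
  refine ⟨?_, ⟨⊥, ⟨⟨fun a b => Subsingleton.elim _ _⟩⟩, ⟨bot_le, ?_, ?_⟩, ?_, ?_⟩, ?_⟩
  · intro k hk hk1
    apply le_antisymm
    · obtain ⟨y, hy, hyp⟩ := exists_prime_order_mem_zpowers hk1
      have hyK : zpowers y ≤ K := zpowers_le.mpr ((zpowers_le.mpr hk) hy)
      rw [← (hall (zpowers y) hyK (by rwa [Nat.card_zpowers])).2]
      exact inf_le_inf_left _ (centralizer_singleton_le_centralizer_zpowers hy)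
    · exact inf_le_inf_left _ (centralizer_le (Set.singleton_subset_iff.mpr hk))
  · intro q hq hqd
    rw [card_bot] at hqd
    exact absurd (Nat.dvd_one.mp hqd) hq.one_lt.ne'
  · intro q hq hqπ hqd
    rw [relIndex_bot_left] at hqd
    exact hqπ.2.1 (hπ q hq (dvd_card_compl hG hM hE hq hqd hqπ.2.2))
  · exact le_top.trans (normalizer_eq_top_iff.mpr (inferInstance : (⊥ : Subgroup G).Normal)).ge
  · intro k _ _
    exact bot_inf_eq _
  · intro X hXK' hXp
    obtain ⟨hN, hC⟩ := hall X hXK' hXp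
    exact ⟨hnorm X hXK' hN hC, hnorm K le_rfl le_normalizer rfl,
      le_sigmaCore_of_Pb2 hG hb2 hM hK hXK' hXp⟩

/-- Case A: no prime of `κ(M)` lies in `τ₃(M)`. -/
theorem caseA [Finite G] (hG : Cfsg.IsMinSimpleOddOrder G) (h17 : T1417 G) (h18 : T1418 G)
    (h27 : T1427 G) (h28 : T1428 G) (h12 : P12 G) (hb2 : Pb2 G)
    {M K : Subgroup G} (hM : IsCoatom M) (hK : Cfsg.IsPiHallOf (Cfsg.kappa M) K M) (hK1 : K ≠ ⊥)
    (hκ3 : ∀ p ∈ Cfsg.kappa M, p ∉ Cfsg.tau3 M) : C1430 M K := by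
  have hMs := sigmaCore_hall hG hM
  have hκ1 : ∀ p ∈ Cfsg.kappa M, p ∈ Cfsg.tau1 M := fun p hp =>
    ⟨hp.1, hp.2.2.1, hp.2.1, fun h => hκ3 p hp ⟨hp.1, hp.2.2.1, h, pRankLE_one_of_kappa hp⟩,
      pRankLE_one_of_kappa hp⟩
  obtain ⟨E, hE, hKE⟩ := exists_compl_ge hG hM hK.1 (fun q hq hqd => (hK.2.1 q hq hqd).2.2.1)
  have hsolE : Group.IsSolvable E := isSolvable_of_le hE.1 (solvable_of_ne_top hG hM.1)
  obtain ⟨E1, hE1, -, hKE1⟩ := Cfsg.Agent.Lib.Helper66.exists_invariant_isPiHallOf_ge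
    (π := Cfsg.tau1 M) (A := ⊥) (G := E) (U := K) bot_le (by simp) hsolE hKE bot_le
    (fun q hq hqd => hκ1 q (hK.2.1 q hq hqd))
  have hE1c : IsCyclic E1 := (Cfsg.Agent.S1415.result hG M hM E hE).2.1 E1 hE1
  have hcomm : ∀ a ∈ E1, ∀ b ∈ E1, a * b = b * a := fun a ha b hb =>
    congrArg Subtype.val (comm_of_isCyclic hE1c ⟨a, ha⟩ ⟨b, hb⟩)
  have hle : ∀ X X' : Subgroup G, X ≤ E1 → X' ≤ E1 → (Nat.card X).Prime → (Nat.card X').Prime →
      Cfsg.sigmaCore M ⊓ centralizer (X : Set G) ≤ Cfsg.sigmaCore M ⊓ centralizer (X' : Set G) := by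
    intro X X' hX hX' hXp hX'p
    refine h28 M hM E hE _ (hE1.2.1 _ hXp (card_dvd_of_le hX)) X (hX.trans hE1.1) rfl X'
      (le_inf (hX'.trans hE1.1) ?_) hX'p
    intro b hb
    rw [mem_centralizer_iff]
    intro a ha
    exact hcomm a (hX ha) b (hX' hb)
  obtain ⟨X0, hX0K, hX0p⟩ := exists_prime_card_le hK1
  have hX0κ := hK.2.1 _ hX0p (card_dvd_of_le hX0K)
  have hne := centralizer_ne_bot_of_kappa hX0κ (hX0K.trans hK.1) rfl
  have hπ : ∀ r : ℕ, r.Prime → r ∣ Nat.card E1 → r ∈ Cfsg.kappa M := by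
    intro r hr hrE
    have : Fact r.Prime := ⟨hr⟩
    have hτ := hE1.2.1 r hr hrE
    obtain ⟨x, hx⟩ := exists_prime_orderOf_dvd_card' (G := E1) r hrE
    have hxo : orderOf (x : G) = r := by rw [Subgroup.orderOf_coe, hx]
    have hxc : Nat.card (zpowers (x : G)) = r := by rw [Nat.card_zpowers, hxo]
    have h1 := hle X0 (zpowers (x : G)) (hX0K.trans hKE1) (zpowers_le.mpr x.2) hX0p (hxc ▸ hr)
    obtain ⟨y, hy, hy1⟩ := exists_ne_one_of_ne_bot hne
    have hy' := h1 hy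
    exact mem_kappa_of hG hτ.2.1 hτ.2.2.2.2 (hE.1 (hE1.1 x.2)) hxo (mem_inf.mp hy').1 hy1
      (mem_centralizer_iff.mp (mem_inf.mp hy').2 x (mem_zpowers _))
  have hKeq : K = E1 := eq_of_hall_le hK hKE1 (hE1.1.trans hE.1) hπ
  subst hKeq
  have heq : ∀ X : Subgroup G, X ≤ K → (Nat.card X).Prime →
      Cfsg.sigmaCore M ⊓ centralizer (X : Set G) = Cfsg.sigmaCore M ⊓ centralizer (X0 : Set G) :=
    fun X hX hXp => le_antisymm (hle X X0 hX hX0K hXp hX0p) (hle X0 X hX0K hX hX0p hXp)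
  have hD : Cfsg.sigmaCore M ⊓ centralizer (X0 : Set G) =
      Cfsg.sigmaCore M ⊓ centralizer (K : Set G) := by
    apply le_antisymm
    · refine le_inf inf_le_left ?_
      rw [le_centralizer_iff]
      apply le_of_forall_isSylowIn
      intro r _ hrK
      obtain ⟨S, hS⟩ := exists_isSylowIn r K
      refine ⟨S, hS, ?_⟩
      have hSE : IsSylowIn r S E := by
        refine ⟨hS.le.trans hE1.1, hS.isPGroup, ?_⟩
        rw [← relIndex_mul_relIndex S K E hS.le hE1.1]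
        intro h
        rcases (Nat.Prime.dvd_mul Fact.out).mp h with h | h
        · exact hS.not_dvd h
        · exact hE1.2.2 r Fact.out (hE1.2.1 r Fact.out hrK) h
      obtain ⟨P', hP'⟩ := hSE.exists_sylow
      have hS1 : S ≠ ⊥ := Cfsg.Agent.Lib.Helper58.BG13.ne_bot_of_isSylowIn_of_dvd hS hrK
      have hP'1 : (P' : Subgroup E) ≠ ⊥ := by
        intro h
        apply hS1
        rw [← hP', h, Subgroup.map_bot]
      have hP'c : IsCyclic (P' : Subgroup E) := by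
        have hcS : IsCyclic S := Subgroup.isCyclic_of_le hS.le
        have hc2 : IsCyclic ((P' : Subgroup E).map E.subtype) := hP'.symm ▸ hcS
        exact isCyclic_of_injective
          ((P' : Subgroup E).equivMapOfInjective E.subtype E.subtype_injective).toMonoidHom
          ((P' : Subgroup E).equivMapOfInjective E.subtype E.subtype_injective).injective
      obtain ⟨x, hxS, hx1⟩ := exists_ne_one_of_ne_bot hS1
      obtain ⟨y, hy, hyp⟩ := exists_prime_order_mem_zpowers hx1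
      have hyS : y ∈ S := (zpowers_le.mpr hxS) hy
      have hy1 : y ≠ 1 := by
        rintro rfl
        rw [orderOf_one] at hyp
        exact Nat.not_prime_one hyp
      have h1 := h27 M hM E hE r P' hP'1 hP'c y (hP'.symm ▸ hyS) hy1
      rw [hP'] at h1
      have h2 := heq (zpowers y) (zpowers_le.mpr (hS.le hyS)) (by rwa [Nat.card_zpowers])
      rw [centralizer_zpowers_eq, h1] at h2
      rw [← h2, le_centralizer_iff]
      exact inf_le_right
    · exact inf_le_inf_left _ (centralizer_le (SetLike.coe_subset_coe.2 hX0K))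
  -- the complement U
  obtain ⟨U, hU⟩ := Cfsg.Agent.Lib.Helper66.exists_isPiHallOf (Cfsg.tau1 M)ᶜ E hsolE
  have hE'U : ⁅E, E⁆ ≤ U := by
    have hE'E : ⁅E, E⁆ ≤ E := commutator_le_self E
    have hUN : U ≤ normalizer ((⁅E, E⁆ : Subgroup G) : Set G) :=
      hU.1.trans (le_normalizer_commutator le_normalizer le_normalizer)
    have h1 := Cfsg.Agent.Lib.Helper12.card_sup_mul_card_inf' U ⁅E, E⁆ hUN
    have h2 : U = U ⊔ ⁅E, E⁆ := by
      refine eq_of_hall_le hU le_sup_left (sup_le hU.1 hE'E) (fun r hr hrd => ?_)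
      have h3 : r ∣ Nat.card U * Nat.card (⁅E, E⁆ : Subgroup G) := h1 ▸ Dvd.dvd.mul_right hrd _
      rcases (Nat.Prime.dvd_mul hr).mp h3 with h | h
      · exact hU.2.1 r hr h
      · intro hτ
        exact hτ.2.2.2.1 (h.trans (card_dvd_of_le (commutator_mono hE.1 hE.1)))
    exact le_sup_right.trans h2.ge
  have hEU : E ≤ normalizer (U : Set G) := by
    intro e he
    apply mem_normalizer_of_cj_le'
    intro z hz
    rw [mem_cj] at hz
    have : z = ⁅e, e⁻¹ * z * e⁆ * (e⁻¹ * z * e) := by rw [commutatorElement_def]; group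
    rw [this]
    exact mul_mem (hE'U (commutator_mem_commutator he (hU.1 hz))) hz
  have hUK : Cfsg.IsComplIn U K E := isComplIn_of_hall_compl hE1 hU
  have hτκ : ∀ q ∈ Cfsg.tau1 M, q ∈ Cfsg.kappa M := fun q hq =>
    hK.2.1 q hq.1 (dvd_card_of_hall hE1 hq.1 hq (dvd_card_compl hG hM hE hq.1 hq.2.2.1 hq.2.1))
  have hUM : Cfsg.IsPiHallOf {q | q.Prime ∧ q ∉ Cfsg.kappa M ∧ q ∉ Cfsg.sigma M} U M := by
    refine ⟨hU.1.trans hE.1, fun r hr hrd => ⟨hr, fun h => hU.2.1 r hr hrd (hκ1 r h),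
      not_mem_sigma_of_dvd_compl hG hM hE hr (hrd.trans (card_dvd_of_le hU.1))⟩, ?_⟩
    intro q hq hqπ hqd
    rw [← relIndex_mul_relIndex U E M hU.1 hE.1, ← card_compl' hE] at hqd
    rcases (hq.dvd_mul).mp hqd with h | h
    · exact hU.2.2 q hq (fun hτ => hqπ.2.1 (hτκ q hτ)) h
    · exact hqπ.2.2 (hMs.2.1 q hq h)
  have hreg : ∀ k ∈ K, k ≠ 1 → U ⊓ centralizer ({k} : Set G) = ⊥ := by
    intro k hk hk1
    by_contra hne'
    obtain ⟨R, hR, hRp⟩ := exists_prime_card_le hne'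
    obtain ⟨y, hy, hyp⟩ := exists_prime_order_mem_zpowers hk1
    have hyK : zpowers y ≤ K := zpowers_le.mpr ((zpowers_le.mpr hk) hy)
    have hyc : (Nat.card (zpowers y)).Prime := by rwa [Nat.card_zpowers]
    have hyτ := hE1.2.1 _ hyc (card_dvd_of_le hyK)
    have hRU : R ≤ U := hR.trans inf_le_left
    have hRC : R ≤ centralizer ((zpowers y : Subgroup G) : Set G) :=
      (hR.trans inf_le_right).trans (centralizer_singleton_le_centralizer_zpowers hy)
    have h1 := h28 M hM E hE _ hyτ (zpowers y) (hyK.trans hE1.1) rfl R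
      (le_inf (hRU.trans hU.1) hRC) hRp
    have hc : Cfsg.sigmaCore M ⊓ centralizer (R : Set G) ≠ ⊥ := by
      intro hb
      rw [hb, heq _ hyK hyc] at h1
      exact hne (le_bot_iff.mp h1)
    have ht := tau2_of_not_kappa hG hM ((hRU.trans hU.1).trans hE.1)
      (fun r hr hrd => (hUM.2.1 r hr (hrd.trans (card_dvd_of_le hRU))).2.2)
      (fun r hr hrd => (hUM.2.1 r hr (hrd.trans (card_dvd_of_le hRU))).2.1) hc _ hRp dvd_rfl
    have : Fact (Nat.card R).Prime := ⟨hRp⟩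
    obtain ⟨A, hA⟩ := exists_ea_sq_in_compl hG hM hE ht
    have hRA : R ≤ A := (h18 M hM E hE _ ht A hA).1.2 R (hRU.trans hU.1) rfl
    have h2 := h12 M hM E hE _ hyτ (zpowers y) (hyK.trans hE1.1) rfl _ ht A hA.1 hA.2.1 hA.2.2
      (fun hb => ne_bot_of_card_prime hRp (le_bot_iff.mp (hb ▸ le_inf hRA hRC)))
    rw [heq _ hyK hyc] at h2
    exact hne h2
  have hUnil : Group.IsNilpotent U :=
    Cfsg.Agent.Lib.Helper98.FW.isNilpotent_of_fpf U K hK1 (hE1.1.trans hEU) (by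
      intro e he he1 u hu heu
      have h : u ∈ U ⊓ centralizer ({e} : Set G) :=
        mem_inf.mpr ⟨hu, by rw [mem_centralizer_singleton_iff]; exact heu.symm⟩
      rwa [hreg e he he1, mem_bot] at h)
  have hUab : IsMulCommutative U :=
    part_c hG h17 hM hUM.1 hUnil (fun r hr hrd => (hUM.2.1 r hr hrd).2.2)
  have hnorm : ∀ Y : Subgroup G, Y ≤ K → Y ≠ ⊥ →
      Cfsg.sigmaCore M ⊓ centralizer (Y : Set G) = Cfsg.sigmaCore M ⊓ centralizer (K : Set G) →
      M ⊓ normalizer (Y : Set G) = K ⊔ (Cfsg.sigmaCore M ⊓ centralizer (K : Set G)) := by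
    intro Y hYK hY1 hC
    have hKY : K ≤ centralizer (Y : Set G) := by
      intro k hk
      rw [mem_centralizer_iff]
      intro y hy
      exact hcomm y (hYK hy) k hk
    apply le_antisymm
    · intro m hm
      obtain ⟨a, ha, b, hb, rfl⟩ := exists_mul_of_mem_normalizer hE (le_normalizer_sigmaCore M)
        (hYK.trans hE1.1) (mem_inf.mp hm).1 (mem_inf.mp hm).2
      rw [hC] at hb
      refine mul_mem (mem_sup_left ?_) (mem_sup_right hb)
      obtain ⟨u, hu, k, hk, rfl⟩ := hUK.2.2.2 a (mem_inf.mp ha).1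
      have huN : u ∈ normalizer (Y : Set G) := by
        have := mul_mem (mem_inf.mp ha).2 (inv_mem (centralizer_le_normalizer _ (hKY hk)))
        rwa [mul_inv_cancel_right] at this
      obtain ⟨y, hy, hy1⟩ := exists_ne_one_of_ne_bot hY1
      have h3 : u * y * u⁻¹ * y⁻¹ ∈ U ⊓ K := by
        refine mem_inf.mpr ⟨?_, ?_⟩
        · have h5 : y * u⁻¹ * y⁻¹ ∈ U :=
            (mem_normalizer_iff.mp (hEU (hE1.1 (hYK hy))) u⁻¹).mp (inv_mem hu)
          have := mul_mem hu h5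
          rwa [show u * (y * u⁻¹ * y⁻¹) = u * y * u⁻¹ * y⁻¹ by group] at this
        · exact mul_mem (hYK ((mem_normalizer_iff.mp huN y).mp hy)) (inv_mem (hYK hy))
      rw [hUK.2.2.1, mem_bot] at h3
      have h4 : u ∈ U ⊓ centralizer ({y} : Set G) := by
        refine mem_inf.mpr ⟨hu, ?_⟩
        rw [mem_centralizer_singleton_iff]
        calc u * y = (u * y * u⁻¹ * y⁻¹) * (y * u) := by group
          _ = y * u := by rw [h3, one_mul]
      rw [hreg y (hYK hy) hy1, mem_bot] at h4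
      rw [h4, one_mul]
      exact hk
    · refine sup_le (le_inf hK.1 (hKY.trans (centralizer_le_normalizer _)))
        (le_inf (inf_le_left.trans (sigmaCore_le M)) ?_)
      exact (inf_le_right.trans (centralizer_le (SetLike.coe_subset_coe.2 hYK))).trans
        (centralizer_le_normalizer _)
  refine ⟨?_, ⟨U, hUab, hUM, hE1.1.trans hEU, hreg⟩, ?_⟩
  · intro k hk hk1
    apply le_antisymm
    · obtain ⟨y, hy, hyp⟩ := exists_prime_order_mem_zpowers hk1
      have hyK : zpowers y ≤ K := zpowers_le.mpr ((zpowers_le.mpr hk) hy)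
      rw [← hD, ← heq (zpowers y) hyK (by rwa [Nat.card_zpowers])]
      exact inf_le_inf_left _ (centralizer_singleton_le_centralizer_zpowers hy)
    · exact inf_le_inf_left _ (centralizer_le (Set.singleton_subset_iff.mpr hk))
  · intro X hXK hXp
    exact ⟨hnorm X hXK (ne_bot_of_card_prime hXp) ((heq X hXK hXp).trans hD),
      hnorm K le_rfl hK1 rfl, le_sigmaCore_of_Pb2 hG hb2 hM hK hXK hXp⟩

/-- statement S1430 from the texts of S1417, S1418, S1427, S1428 and `P12`, `P11`, `Pb2`. -/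
theorem S1430_of [Finite G] (hG : Cfsg.IsMinSimpleOddOrder G) (h17 : T1417 G) (h18 : T1418 G)
    (h27 : T1427 G) (h28 : T1428 G) (h12 : P12 G) (h11 : P11 G) (hb2 : Pb2 G)
    (M : Subgroup G) (hM : IsCoatom M) (K : Subgroup G)
    (hK : Cfsg.IsPiHallOf (Cfsg.kappa M) K M) (hK1 : K ≠ ⊥) : C1430 M K := by
  by_cases h : ∃ p ∈ Cfsg.kappa M, p ∈ Cfsg.tau3 M
  · obtain ⟨p, hpκ, hp3⟩ := h
    exact caseB hG h11 hb2 hM hK hpκ hp3
  · push Not at h
    exact caseA hG h17 h18 h27 h28 h12 hb2 hM hK hK1 h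

end Cfsg.Agent.Lib.Helper27.BG14
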