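import Cfsg.Agent.Lib.Helper27.BG14c
import Cfsg.Agent.Lib.Helper58.BG13b
import Cfsg.Agent.S1409

/-!
The second half of B-G Proposition 14.2(b) (`Pb2`): if `p ∈ κ(M)`, `X ≤ M` has order `p` and `H` is
a maximal subgroup containing `N(X)` then `p ∈ σ(H)`.  Proved from the σ-partition (S1378), B-G 13.6
(`L136`), and the texts of S1409, S1416, S1417, S1418.
-/

set_option autoImplicit false

namespace Cfsg.Agent.Lib.Helper27.BG14

open Subgroup Cfsg.Agent.Lib.Helper30 Cfsg.Agent.Lib.Helper2 Cfsg.Agent.Lib.Helper68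
  Cfsg.Agent.Lib.Helper28.BG12
open scoped commutatorElement

universe u

variable {G : Type u} [Group G]

/-- B-G 13.6 (in the form of helper51 / helper1). -/
def L136 (G : Type u) [Group G] : Prop :=
  ∀ (M : Subgroup G), IsCoatom M → ∀ E : Subgroup G, Cfsg.IsComplIn E (Cfsg.sigmaCore M) M →
    ∀ p : ℕ, p ∈ Cfsg.tau1 M → ∀ P : Subgroup G, P ≤ E → Nat.card P = p →
    ∀ (q : ℕ) [Fact q.Prime] (X : Subgroup G),
      X ≤ Cfsg.sigmaCore M ⊓ centralizer (P : Set G) → Nat.card X = q →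
      (centralizer (X : Set G) ≤ M ∧
        ∀ L : Subgroup G, IsCoatom L → centralizer (X : Set G) ≤ L → L = M)

/-- the σ-partition (second part of the text of S1378). -/
def SP (G : Type u) [Group G] : Prop :=
  ∀ M N : Subgroup G, IsCoatom M → IsCoatom N → (Cfsg.sigma M ∩ Cfsg.sigma N).Nonempty →
    ∃ g : G, N = M.map (MulAut.conj g).toMonoidHom

theorem Pb2_of [Finite G] (hG : Cfsg.IsMinSimpleOddOrder G)
    (h16 : Cfsg.Agent.Lib.Helper58.BG12.C16 G) (h17 : T1417 G) (h18 : T1418 G) (hSP : SP G)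
    (h136 : L136 G) : Pb2 G := by
  intro M hM p hp X hXM hX H hH hNX
  by_contra hpH
  have hpp : Fact p.Prime := ⟨hp.1⟩
  have hpM : p ∉ Cfsg.sigma M := hp.2.2.1
  have hr1 : Cfsg.PRankLE p 1 M := Cfsg.Agent.Lib.Helper28.BG12.pRankLE_one_of_kappa hp
  have hXp : IsPGroup p X := isPGroup_of_card_prime hX
  have hX1 : X ≠ ⊥ := ne_bot_of_card_prime (hX ▸ hpp.out)
  obtain ⟨⟨hr2, hnr1⟩, hni, -⟩ := Cfsg.Agent.S1409.result hG H hH p hpH X hX hNX
  have hτH : p ∈ Cfsg.tau2 H := ⟨hpp.out, hpH, hr2, hnr1⟩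
  -- no elementary abelian subgroup of order `p ^ 2` in `M`
  have hnoA : ∀ A : Subgroup G, Cfsg.IsElementaryAbelian p A → Nat.card A = p ^ 2 → ¬ A ≤ M := by
    intro A hA hc hAM
    exact Cfsg.Agent.Lib.Helper58.BG9.not_pRankLE_of_le hAM hA
      (by rw [hc]; exact Nat.pow_lt_pow_right hpp.out.one_lt (by norm_num)) hr1
  -- conjugates of `M`
  have hncσ : ∀ N : Subgroup G, p ∈ Cfsg.sigma N → ∀ g : G, N ≠ cj g M := by
    rintro N hN g rfl
    apply hpM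
    have := Cfsg.Agent.Lib.Helper58.BG13.sigma_cj hN g⁻¹
    rwa [cj_inv_cj] at this
  have hncH : ∀ g : G, H ≠ cj g M := by
    rintro g rfl
    obtain ⟨A, hA, hAe, hc⟩ := exists_ea_sq_of_tau2 hτH
    have h1 : cj g⁻¹ A ≤ M := by
      have := cj_mono g⁻¹ hA
      rwa [cj_inv_cj] at this
    exact hnoA _ (ea_cj hAe g⁻¹) (by rw [card_cj, hc]) h1
  -- the subgroup `Y₀`
  have hD := centralizer_ne_bot_of_kappa hp hXM hX
  obtain ⟨Y, hYD, hYc⟩ := exists_prime_card_le hD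
  obtain ⟨q, hq⟩ : ∃ q, Nat.card Y = q := ⟨_, rfl⟩
  have hqq : Fact q.Prime := ⟨hq ▸ hYc⟩
  have hYq : IsPGroup q Y := isPGroup_of_card_prime hq
  have hY1 : Y ≠ ⊥ := ne_bot_of_card_prime hYc
  have hYMs : Y ≤ Cfsg.sigmaCore M := hYD.trans inf_le_left
  have hYM : Y ≤ M := hYMs.trans (sigmaCore_le M)
  have hYX : Y ≤ centralizer (X : Set G) := hYD.trans inf_le_right
  have hXY : X ≤ centralizer (Y : Set G) := le_centralizer_iff.mp hYX
  have hYH : Y ≤ H := (hYX.trans (centralizer_le_normalizer _)).trans hNX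
  have hXH : X ≤ H := le_normalizer.trans hNX
  have hqM : q ∈ Cfsg.sigma M :=
    (sigmaCore_hall hG hM).2.1 q hqq.out (hq ▸ card_dvd_of_le hYMs)
  have hpq : p ≠ q := fun h => hpM (h ▸ hqM)
  -- the σ-partition
  have hsp : ∀ N : Subgroup G, IsCoatom N → (∀ g : G, N ≠ cj g M) → q ∉ Cfsg.sigma N := by
    intro N hN hnc hqN
    obtain ⟨g, hg⟩ := hSP M N hM hN ⟨q, hqM, hqN⟩
    exact hnc g hg
  have hqH : q ∉ Cfsg.sigma H := hsp H hH hncH
  -- a complement of `H_σ` containing `X Y`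
  have hXYn : X ≤ normalizer (Y : Set G) := hXY.trans (centralizer_le_normalizer _)
  obtain ⟨EH, hEH, hXYE⟩ := exists_compl_ge hG hH (sup_le hXH hYH) (by
    intro t ht htd
    rcases Cfsg.Agent.Lib.Helper58.BG13.prime_dvd_card_sup' hXYn ht htd with h | h
    · rw [prime_dvd_card_isPGroup hXp ht h]; exact hpH
    · rw [prime_dvd_card_isPGroup hYq ht h]; exact hqH)
  have hXE : X ≤ EH := le_sup_left.trans hXYE
  have hYE : Y ≤ EH := le_sup_right.trans hXYE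
  obtain ⟨A, hAE, hA, hAc⟩ := exists_ea_sq_in_compl hG hH hEH hτH
  obtain ⟨⟨hEA, hall⟩, -, -⟩ := h18 H hH EH hEH p hτH A ⟨hAE, hA, hAc⟩
  have hXA : X ≤ A := hall X hXE hX
  have hAp : IsPGroup p A := ea_isPGroup hA
  have hA1 : A ≠ ⊥ := fun h => hX1 (le_bot_iff.mp (h ▸ hXA))
  have hAH : A ≤ H := hAE.trans hEH.1
  have hAtop : A ≠ ⊤ := fun h => hH.1 (top_le_iff.mp (h ▸ hAH))
  -- the maximal subgroup `L ≥ N(A)`
  obtain ⟨L, hL, hNL⟩ := exists_coatom_ge (normalizer_ne_top hG hA1 hAtop)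
  have hAL : A ≤ L := le_normalizer.trans hNL
  have hpL : p ∈ Cfsg.sigma L := by
    by_contra hpL
    have hτL := Cfsg.Agent.Lib.Helper58.BG13.mem_tau2_of_ea hG hL hpL hAL hA hAc
    obtain ⟨EL, hEL, hAEL⟩ := exists_compl_ge hG hL hAL (by
      intro t ht htd
      rw [prime_dvd_card_isPGroup hAp ht htd]; exact hpL)
    exact (h18 L hL EL hEL p hτL A ⟨hAEL, hA, hAc⟩).2.1.2.2 hNL
  have hLH : H ≠ L := fun h => hpH (h ▸ hpL)
  have hLM : L ≠ M := fun h => hpM (h ▸ hpL)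
  have hqL : q ∉ Cfsg.sigma L := hsp L hL (hncσ L hpL)
  have hpβ : p ∉ Cfsg.beta L := fun h => hni h.2
  have hALs : A ≤ Cfsg.sigmaCore L := isPGroup_le_sigmaCore hG hL hpL hAL hAp
  have hAL' : A ≤ ⁅L, L⁆ := hALs.trans (Cfsg.Agent.Lib.Helper31.sigmaCore_le_commutator hG hL)
  have hYL : Y ≤ L := (hYE.trans hEA).trans hNL
  have hYA : Y ≤ normalizer (A : Set G) := hYE.trans hEA
  have hXLs : X ≤ Cfsg.sigmaCore L := hXA.trans hALs
  have hCne : Cfsg.sigmaCore L ⊓ centralizer (Y : Set G) ≠ ⊥ := fun h =>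
    hX1 (le_bot_iff.mp (h ▸ le_inf hXLs hXY))
  obtain ⟨EL, hEL, hYEL⟩ := exists_compl_ge hG hL hYL (by
    intro t ht htd
    rw [prime_dvd_card_isPGroup hYq ht htd]; exact hqL)
  rcases Cfsg.Agent.Lib.Helper58.BG13.tau_cases hG hL hqq.out (hq ▸ card_dvd_of_le hYL) hqL with
    h1 | h2 | h3
  · -- `q ∈ τ₁(L)`
    have := (h136 L hL EL hEL q h1 Y hYEL hq p X (le_inf hXLs hXY) hX).2 H hH
      ((centralizer_le_normalizer _).trans hNX)
    exact hLH this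
  · -- `q ∈ τ₂(L)`
    obtain ⟨B, hBE, hB, hBc⟩ := exists_ea_sq_in_compl hG hL hEL h2
    obtain ⟨⟨-, hallB⟩, -, huB⟩ := h18 L hL EL hEL q h2 B ⟨hBE, hB, hBc⟩
    obtain ⟨-, hu⟩ := huB Y (hallB Y hYEL hq) hq hCne
    have hNY : normalizer (Y : Set G) ≤ L :=
      Cfsg.Agent.Lib.Helper58.BG13.normalizer_le_of_uniq hG hL hY1 hYL
        (centralizer_le_normalizer _) hu
    obtain ⟨-, hbot, -⟩ := Cfsg.Agent.Lib.Helper58.BG13.caseE hG h16 h17 h18 hM hqM hYq hY1 hYM hL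
      hLM hNY hqL
    exact hX1 (le_bot_iff.mp (hbot ▸ le_inf hXLs hXM))
  · -- `q ∈ τ₃(L)`
    have hYL' : Y ≤ ⁅L, L⁆ := Cfsg.Agent.Lib.Helper58.BG13.le_commutator_of_tau3 hG h3 hYL hq
    have hYcA : Y ≤ centralizer (A : Set G) :=
      Cfsg.Agent.Lib.Helper58.BG13.lemmaK hG hL hpβ hAp hA1 hAL' hYL'
        (Cfsg.Agent.Lib.Helper58.BG13.coprime_card_of_isPGroup hpq.symm hYq) hYA
    have hAY : A ≤ centralizer (Y : Set G) := le_centralizer_iff.mp hYcA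
    by_cases hNM : normalizer (Y : Set G) ≤ M
    · exact hnoA A hA hAc ((hAY.trans (centralizer_le_normalizer _)).trans hNM)
    · have hYtop : Y ≠ ⊤ := fun h => hM.1 (top_le_iff.mp (h ▸ hYM))
      obtain ⟨L2, hL2, hNL2⟩ := exists_coatom_ge (normalizer_ne_top hG hY1 hYtop)
      have hL2M : L2 ≠ M := fun h => hNM (h ▸ hNL2)
      have hYL2 : Y ≤ L2 := le_normalizer.trans hNL2
      obtain ⟨S, hS, hYS⟩ := exists_isSylowIn_ge (le_inf hYM hYL2) hYq
      obtain ⟨hnc2, -, -⟩ := Cfsg.Agent.Lib.Helper58.BG12.bg1215 hG h16 hM hqM hYq hY1 hYM hL2 hL2M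
        hNL2 hS hYS
      have hqL2 : q ∉ Cfsg.sigma L2 := hsp L2 hL2 hnc2
      obtain ⟨-, hbot, E2, hE2, hE2M⟩ := Cfsg.Agent.Lib.Helper58.BG13.caseE hG h16 h17 h18 hM hqM hYq
        hY1 hYM hL2 hL2M hNL2 hqL2
      have hAL2 : A ≤ L2 := (hAY.trans (centralizer_le_normalizer _)).trans hNL2
      have hpL2 : p ∉ Cfsg.sigma L2 := by
        intro h
        have h1 : X ≤ Cfsg.sigmaCore L2 := isPGroup_le_sigmaCore hG hL2 h (hXA.trans hAL2) hXp
        exact hX1 (le_bot_iff.mp (hbot ▸ le_inf h1 hXM))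
      obtain ⟨m, -, hm⟩ := exists_cj_le_compl hG hL2 hE2 hAL2 (by
        intro t ht htd
        rw [prime_dvd_card_isPGroup hAp ht htd]; exact hpL2)
      exact hnoA _ (ea_cj hA m) (by rw [card_cj, hAc]) (hm.trans hE2M)

end Cfsg.Agent.Lib.Helper27.BG14
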